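import Mathlib
import Cfsg.Agent.Lib.Perm.PrimeDegree
import Cfsg.Agent.Lib.Solv.Basic

/-!
Transitive actions of prime degree: either only the identity action fixes two points, or the action is
doubly transitive; consequences of either alternative.
-/

set_option autoImplicit false

namespace Cfsg.Agent.Solv.PSq

open MulAction

/-- An element fixing two points fixes every point. -/
def TwoFix (X β : Type*) [Group X] [MulAction X β] : Prop :=
  ∀ g : X, ∀ x y : β, x ≠ y → g • x = x → g • y = y → ∀ z : β, g • z = z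

section Rot

variable {β : Type*}

/-- A permutation commuting with a permutation with transitive powers and fixing a point is trivial. -/
theorem eq_one_of_commute (π f : Equiv.Perm β) (ht : ∀ x y : β, ∃ i : ℕ, (π ^ i) x = y)
    (hc : Commute f π) (x : β) (hx : f x = x) : f = 1 := by
  refine Equiv.ext fun y => ?_
  obtain ⟨i, rfl⟩ := ht x y
  have h1 : f ((π ^ i) x) = (π ^ i) (f x) := by
    rw [← Equiv.Perm.mul_apply, (hc.pow_right i).eq, Equiv.Perm.mul_apply]
  rw [h1, hx, Equiv.Perm.one_apply]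

/-- A permutation normalising a transitive cyclic group of prime order and fixing two points is trivial. -/
theorem fix_all_of_normalises {p : ℕ} (hp : p.Prime) (π f : Equiv.Perm β) (hπ : orderOf π = p)
    (ht : ∀ x y : β, ∃ i : ℕ, (π ^ i) x = y) (hn : f * π * f⁻¹ ∈ Subgroup.zpowers π) (x y : β)
    (hxy : x ≠ y) (hx : f x = x) (hy : f y = y) : f = 1 := by
  obtain ⟨k, hk⟩ := Subgroup.mem_zpowers_iff.1 hn
  obtain ⟨i, hi⟩ := ht x y
  have h1 : f * π ^ i * f⁻¹ = π ^ (k * i) := by
    rw [← conj_pow, ← hk, zpow_mul, zpow_natCast]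
  have h2 : (π ^ (k * i)) x = y := by
    rw [← h1]
    simp only [Equiv.Perm.mul_apply]
    rw [Equiv.Perm.inv_eq_iff_eq.2 hx.symm, hi, hy]
  have h3 : π ^ (k * (i : ℤ)) = π ^ (i : ℤ) := by
    have h4 : ((π ^ (i : ℤ))⁻¹ * π ^ (k * (i : ℤ))) = 1 := by
      refine eq_one_of_commute π _ ht ?_ x ?_
      · exact ((Commute.refl π).zpow_left _).inv_left.mul_left ((Commute.refl π).zpow_left _)
      · rw [Equiv.Perm.mul_apply, h2, Equiv.Perm.inv_eq_iff_eq, zpow_natCast, hi]
    exact (inv_mul_eq_one.1 h4).symm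
  have h5 : π ^ ((k - 1) * (i : ℤ)) = 1 := by rw [sub_mul, one_mul, zpow_sub, h3, mul_inv_cancel]
  rw [← orderOf_dvd_iff_zpow_eq_one, hπ] at h5
  rcases (Nat.prime_iff_prime_int.mp hp).dvd_or_dvd h5 with h6 | h6
  · rw [← hπ, orderOf_dvd_iff_zpow_eq_one, zpow_sub, zpow_one, hk, mul_inv_eq_one] at h6
    refine eq_one_of_commute π f ht ?_ x hx
    exact mul_inv_eq_iff_eq_mul.1 h6
  · rw [Int.natCast_dvd_natCast, ← hπ, orderOf_dvd_iff_pow_eq_one] at h6
    rw [h6, Equiv.Perm.one_apply] at hi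
    exact absurd hi hxy

end Rot

variable {X β : Type*} [Group X] [MulAction X β] [Finite β] {p : ℕ}

local notation "φ" => MulAction.toPermHom X β

theorem isPreprimitive [IsPretransitive X β] (hp : p.Prime) (hβ : Nat.card β = p) :
    IsPreprimitive X β :=
  IsPreprimitive.of_prime_card (hβ ▸ hp)

/-- A normal subgroup with a nontrivial image is transitive. -/
theorem normal_transitive [IsPretransitive X β] (hp : p.Prime) (hβ : Nat.card β = p) (N : Subgroup X)
    [N.Normal] (hN : ∃ n ∈ N, ∃ x : β, n • x ≠ x) : IsPretransitive N β := by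
  haveI := isPreprimitive (X := X) hp hβ
  obtain ⟨n, hn, x, hx⟩ := hN
  refine IsQuasiPreprimitive.isPretransitive_of_normal fun h => hx ?_
  have h2 := Set.eq_univ_iff_forall.1 h x
  exact MulAction.mem_fixedPoints.1 h2 ⟨n, hn⟩

instance range_pretransitive [IsPretransitive X β] : IsPretransitive (φ).range β := by
  refine ⟨fun x y => ?_⟩
  obtain ⟨g, hg⟩ := exists_smul_eq X x y
  exact ⟨⟨φ g, g, rfl⟩, hg⟩

/-- A rotation of a transitive action of prime degree. -/
theorem exists_rot [IsPretransitive X β] (hp : p.Prime) (hβ : Nat.card β = p) :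
    ∃ π : Equiv.Perm β, π ∈ (φ).range ∧ orderOf π = p ∧ ∀ x y : β, ∃ i : ℕ, (π ^ i) x = y := by
  classical
  letI := Fintype.ofFinite β
  haveI : Fact p.Prime := ⟨hp⟩
  rw [Nat.card_eq_fintype_card] at hβ
  obtain ⟨π, h1, h2, h3, -⟩ := Perm.exists_cycle_prime_degree hβ (φ).range
  exact ⟨π, h1, h2, h3⟩

theorem twoFix_range (h : TwoFix X β) {f : Equiv.Perm β} (hf : f ∈ (φ).range) {x y : β} (hxy : x ≠ y)
    (hx : f x = x) (hy : f y = y) : f = 1 := by
  obtain ⟨g, rfl⟩ := hf
  exact Equiv.ext fun z => h g x y hxy hx hy z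

/-- In the first alternative all permutations of order `p` in the image are powers of one rotation. -/
theorem rot_unique (hp : p.Prime) (hβ : Nat.card β = p) (h : TwoFix X β) {π f : Equiv.Perm β}
    (hπ : π ∈ (φ).range) (hπo : orderOf π = p) (hf : f ∈ (φ).range) (hfp : f ^ p = 1) :
    f ∈ Subgroup.zpowers π := by
  classical
  letI := Fintype.ofFinite β
  by_contra hne
  haveI : Nonempty β := (Nat.card_pos_iff.1 (hβ ▸ hp.pos)).1
  obtain ⟨x, y, hxy⟩ : ∃ x y : β, x ≠ y := by
    haveI : Nontrivial β := Finite.one_lt_card_iff_nontrivial.1 (hβ ▸ hp.one_lt)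
    exact exists_pair_ne β
  let T : Subgroup (Equiv.Perm β) := (φ).range
  have hinj : Function.Injective (fun u : T => (⟨((u : Equiv.Perm β) x, (u : Equiv.Perm β) y),
      fun he => hxy ((u : Equiv.Perm β).injective he)⟩ : {z : β × β // z.1 ≠ z.2})) := by
    intro u v huv
    simp only [Subtype.mk.injEq, Prod.mk.injEq] at huv
    refine Subtype.ext (inv_mul_eq_one.1 (twoFix_range h (T.mul_mem (T.inv_mem u.2) v.2) hxy ?_ ?_))
    · rw [Equiv.Perm.mul_apply, ← huv.1, Equiv.Perm.inv_def, Equiv.symm_apply_apply]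
    · rw [Equiv.Perm.mul_apply, ← huv.2, Equiv.Perm.inv_def, Equiv.symm_apply_apply]
  have h1 : Fintype.card T ≤ p * p - p := by
    refine (Fintype.card_le_of_injective _ hinj).trans ?_
    rw [Nat.card_eq_fintype_card] at hβ
    have h3 : (Finset.univ.filter fun z : β × β => z.1 ≠ z.2) = Finset.univ.offDiag := by
      ext z; simp
    rw [Fintype.card_subtype, h3, Finset.offDiag_card, Finset.card_univ, hβ]
  have hfo : orderOf f = p := by
    rcases (Nat.dvd_prime hp).1 (orderOf_dvd_of_pow_eq_one hfp) with h2 | h2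
    · exact absurd (by rw [orderOf_eq_one_iff.1 h2]; exact one_mem _) hne
    · exact h2
  haveI : Fact (Nat.card (Subgroup.zpowers π)).Prime := ⟨by rwa [Nat.card_zpowers, hπo]⟩
  have hinter : Subgroup.zpowers π ⊓ Subgroup.zpowers f = ⊥ := by
    rcases (Subgroup.zpowers π ⊓ Subgroup.zpowers f).subgroupOf (Subgroup.zpowers π)
      |>.eq_bot_or_eq_top_of_prime_card with h2 | h2
    · rwa [Subgroup.subgroupOf_eq_bot, disjoint_iff, inf_comm, ← inf_assoc, inf_idem] at h2
    · rw [Subgroup.subgroupOf_eq_top, le_inf_iff] at h2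
      have h4 : Subgroup.zpowers π = Subgroup.zpowers f := Subgroup.eq_of_le_of_card_ge h2.2
        (by rw [Nat.card_zpowers, Nat.card_zpowers, hπo, hfo])
      exact absurd (h4 ▸ Subgroup.mem_zpowers f) hne
  have hinj2 : Function.Injective (fun u : Subgroup.zpowers π × Subgroup.zpowers f =>
      (⟨(u.1 : Equiv.Perm β) * u.2, T.mul_mem ((Subgroup.zpowers_le.2 hπ) u.1.2)
        ((Subgroup.zpowers_le.2 hf) u.2.2)⟩ : T)) := by
    intro u v huv
    exact Subgroup.mul_injective_of_disjoint (disjoint_iff.2 hinter) (congrArg Subtype.val huv)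
  have h2 := Fintype.card_le_of_injective _ hinj2
  rw [Fintype.card_prod, Fintype.card_zpowers, Fintype.card_zpowers, hπo, hfo] at h2
  have := Nat.mul_pos hp.pos hp.pos
  have := hp.pos
  omega

/-- Burnside: the two alternatives. -/
theorem twoFix_or_trans [IsPretransitive X β] (hp : p.Prime) (hβ : Nat.card β = p) :
    TwoFix X β ∨ IsMultiplyPretransitive X β 2 := by
  classical
  letI := Fintype.ofFinite β
  haveI : Fact p.Prime := ⟨hp⟩
  have hβ' : Fintype.card β = p := by rwa [Nat.card_eq_fintype_card] at hβ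
  rcases Perm.burnside_prime_degree hβ' (φ).range with hs | h2
  · left
    haveI : Nontrivial β := Finite.one_lt_card_iff_nontrivial.1 (hβ ▸ hp.one_lt)
    haveI : Nontrivial (φ).range := by
      obtain ⟨π, h1, h3, -⟩ := exists_rot (X := X) hp hβ
      refine ⟨⟨π, h1⟩, 1, fun he => hp.one_lt.ne' ?_⟩
      rw [← h3, show π = 1 from congrArg Subtype.val he, orderOf_one]
    obtain ⟨A, hAn, hA, hAmin⟩ := Solv.exists_minimal_normal (G := (φ).range)
    haveI := hAn
    haveI := hs
    obtain ⟨hel, -⟩ := Solv.minimal_normal_elementaryAbelian A inferInstance hA hAmin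
    have hAmove : ∃ n ∈ A, ∃ x : β, n • x ≠ x := by
      by_contra hcon
      push Not at hcon
      exact hA ((Subgroup.eq_bot_iff_forall A).2 fun n hn => Subtype.ext (Equiv.ext fun x => hcon n hn x))
    haveI := normal_transitive (X := (φ).range) hp hβ A hAmove
    obtain ⟨π, h1, h3, h4⟩ := exists_rot (X := A) hp hβ
    obtain ⟨u, hu⟩ := h1
    have hcomm : ∀ a b : A, a * b = b * a := hel.is_comm.comm
    intro g x y hxy hx hy z
    have h5 : toPermHom X β g = 1 := by
      refine fix_all_of_normalises hp π _ h3 h4 ?_ x y hxy hx hy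
      let v : A := ⟨⟨toPermHom X β g, g, rfl⟩ * u * (⟨toPermHom X β g, g, rfl⟩)⁻¹, hAn.conj_mem _ u.2 _⟩
      have h6 : Commute (((v : (φ).range) : Equiv.Perm β)) π := by
        rw [← hu]
        exact congrArg (fun a : A => ((a : (φ).range) : Equiv.Perm β)) (hcomm v u)
      have h7 : toPermHom X β g * π * (toPermHom X β g)⁻¹ = ((v : (φ).range) : Equiv.Perm β) := by
        rw [← hu]; rfl
      rw [h7]
      obtain ⟨i, hi⟩ := h4 x (((v : (φ).range) : Equiv.Perm β) x)
      have h8 : (π ^ i)⁻¹ * ((v : (φ).range) : Equiv.Perm β) = 1 := by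
        refine eq_one_of_commute π _ h4 ((Commute.refl π).pow_left i |>.inv_left |>.mul_left h6) x ?_
        rw [Equiv.Perm.mul_apply, Equiv.Perm.inv_eq_iff_eq, hi]
      rw [← inv_mul_eq_one.1 h8]
      exact pow_mem (Subgroup.mem_zpowers π) i
    exact congrArg (fun f : Equiv.Perm β => f z) h5
  · right
    rw [is_two_pretransitive_iff] at h2 ⊢
    intro a b c d hab hcd
    obtain ⟨⟨f, g, rfl⟩, h3, h4⟩ := h2 hab hcd
    exact ⟨g, h3, h4⟩

theorem trans_of_not_twoFix [IsPretransitive X β] (hp : p.Prime) (hβ : Nat.card β = p)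
    (h : ¬ TwoFix X β) {a b c d : β} (hab : a ≠ b) (hcd : c ≠ d) :
    ∃ g : X, g • a = c ∧ g • b = d :=
  is_two_pretransitive_iff.1 ((twoFix_or_trans hp hβ).resolve_left h) hab hcd

/-- Conjugation by a group element permutes the powers of the rotation. -/
theorem conj_rot [IsPretransitive X β] (hp : p.Prime) (hβ : Nat.card β = p) (h : TwoFix X β)
    {π : Equiv.Perm β} (hπ : π ∈ (φ).range) (hπo : orderOf π = p) (g : X) :
    φ g * π * (φ g)⁻¹ ∈ Subgroup.zpowers π := by
  refine rot_unique hp hβ h hπ hπo (Subgroup.mul_mem _ (Subgroup.mul_mem _ ⟨g, rfl⟩ hπ)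
    (Subgroup.inv_mem _ ⟨g, rfl⟩)) ?_
  rw [conj_pow, ← hπo, pow_orderOf_eq_one, mul_one, mul_inv_cancel]

/-- Point stabilisers act as abelian groups. -/
theorem comm_fix [IsPretransitive X β] (hp : p.Prime) (hβ : Nat.card β = p) (h : TwoFix X β)
    (g k : X) (x : β) (hg : g • x = x) (hk : k • x = x) (z : β) :
    (g * k * g⁻¹ * k⁻¹) • z = z := by
  obtain ⟨π, h1, h2, h3⟩ := exists_rot (X := X) hp hβ
  obtain ⟨i, hi⟩ := Subgroup.mem_zpowers_iff.1 (conj_rot hp hβ h h1 h2 g)
  obtain ⟨j, hj⟩ := Subgroup.mem_zpowers_iff.1 (conj_rot hp hβ h h1 h2 k)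
  have hgk : φ (g * k) * π * (φ (g * k))⁻¹ = π ^ (i * j) := by
    rw [map_mul, zpow_mul, hi, conj_zpow, hj]; group
  have hkg : φ (k * g) * π * (φ (k * g))⁻¹ = π ^ (i * j) := by
    rw [map_mul, mul_comm i j, zpow_mul, hj, conj_zpow, hi]; group
  have h4 : φ ((k * g)⁻¹ * (g * k)) = 1 := by
    refine eq_one_of_commute π _ h3 ?_ x ?_
    · rw [map_mul, map_inv]
      refine mul_inv_eq_iff_eq_mul.1 ?_
      calc (φ (k * g))⁻¹ * φ (g * k) * π * ((φ (k * g))⁻¹ * φ (g * k))⁻¹
          = (φ (k * g))⁻¹ * (φ (g * k) * π * (φ (g * k))⁻¹) * φ (k * g) := by group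
        _ = π := by rw [hgk, ← hkg]; group
    · show ((k * g)⁻¹ * (g * k)) • x = x
      rw [mul_smul, inv_smul_eq_iff, mul_smul, mul_smul, hg, hk, hg]
  have h5 : φ (g * k) = φ (k * g) := by
    rw [map_mul, map_inv, inv_mul_eq_one] at h4
    exact h4.symm
  have h6 : φ (g * k * g⁻¹ * k⁻¹) = 1 := by
    rw [show g * k * g⁻¹ * k⁻¹ = g * k * (k * g)⁻¹ by group, map_mul, h5, ← map_mul, mul_inv_cancel,
      map_one]
  exact congrArg (fun f : Equiv.Perm β => f z) h6

/-- Elements of order dividing `p` commute in their action. -/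
theorem comm_pow_p [IsPretransitive X β] (hp : p.Prime) (hβ : Nat.card β = p) (h : TwoFix X β)
    (g k : X) (hg : ∀ z : β, (g ^ p) • z = z) (hk : ∀ z : β, (k ^ p) • z = z) (z : β) :
    g • k • z = k • g • z := by
  obtain ⟨π, h1, h2, -⟩ := exists_rot (X := X) hp hβ
  have hmem : ∀ u : X, (∀ w : β, (u ^ p) • w = w) → φ u ∈ Subgroup.zpowers π := fun u hu =>
    rot_unique hp hβ h h1 h2 ⟨u, rfl⟩ (by rw [← map_pow]; exact Equiv.ext hu)
  obtain ⟨i, hi⟩ := Subgroup.mem_zpowers_iff.1 (hmem g hg)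
  obtain ⟨j, hj⟩ := Subgroup.mem_zpowers_iff.1 (hmem k hk)
  have h4 : Commute (φ g) (φ k) := by
    rw [← hi, ← hj]; exact Commute.zpow_zpow_self π i j
  exact congrArg (fun f : Equiv.Perm β => f z) h4.eq

/-- The first alternative is inherited from normal subgroups with nontrivial image. -/
theorem twoFix_of_normal [IsPretransitive X β] (hp : p.Prime) (hβ : Nat.card β = p) (N : Subgroup X)
    [N.Normal] (hN : ∃ n ∈ N, ∃ x : β, n • x ≠ x) (h : TwoFix N β) : TwoFix X β := by
  haveI := normal_transitive hp hβ N hN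
  obtain ⟨π, h1, h2, h3⟩ := exists_rot (X := N) hp hβ
  obtain ⟨u, hu⟩ := h1
  intro g x y hxy hx hy z
  have h5 : φ g = 1 := by
    refine fix_all_of_normalises hp π _ h2 h3 ?_ x y hxy hx hy
    refine rot_unique (X := N) hp hβ h ⟨u, hu⟩ h2 ⟨⟨g * (u : X) * g⁻¹, ‹N.Normal›.conj_mem _ u.2 g⟩, ?_⟩ ?_
    · rw [← hu]
      refine Equiv.ext fun w => ?_
      simp [MulAction.toPermHom_apply, MulAction.toPerm_apply, mul_smul, Subgroup.smul_def]
    · rw [conj_pow, ← h2, pow_orderOf_eq_one, mul_one, mul_inv_cancel]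
  exact congrArg (fun f : Equiv.Perm β => f z) h5

/-- A subgroup containing the derived group of a point stabiliser and all two point stabilisers is
transitive on the other points unless only the identity action fixes two points. -/
theorem trans_of_abelian_quot [Finite X] [IsPretransitive X β] (hp : p.Prime) (hβ : Nat.card β = p)
    (h : ¬ TwoFix X β) (x₀ : β) (W : Subgroup X) (hle : W ≤ stabilizer X x₀)
    (hc : ∀ g ∈ stabilizer X x₀, ∀ k ∈ stabilizer X x₀, g * k * g⁻¹ * k⁻¹ ∈ W)
    (h2 : ∀ g ∈ stabilizer X x₀, ∀ y : β, y ≠ x₀ → g • y = y → g ∈ W) (y z : β) (hy : y ≠ x₀)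
    (hz : z ≠ x₀) : ∃ w ∈ W, w • y = z := by
  classical
  let S := stabilizer X x₀
  let V : Subgroup S := W.subgroupOf S
  haveI hVn : V.Normal := ⟨fun v hv g => by
    rw [Subgroup.mem_subgroupOf] at hv ⊢
    have h3 := W.mul_mem (hc g g.2 v v.2) hv
    simpa [mul_assoc] using h3⟩
  letI : CommGroup (S ⧸ V) :=
    { (inferInstance : Group (S ⧸ V)) with
      mul_comm := fun a b => by
        induction a using QuotientGroup.induction_on with
        | H g =>
          induction b using QuotientGroup.induction_on with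
          | H k =>
            rw [← QuotientGroup.mk_mul, ← QuotientGroup.mk_mul, QuotientGroup.eq,
              Subgroup.mem_subgroupOf]
            have h3 := hc _ (inv_mem k.2) _ (inv_mem g.2)
            simpa [mul_assoc] using h3 }
  let τ : X →* S ⧸ V := MonoidHom.transfer (QuotientGroup.mk' V)
  have hτ : ∀ g : S, τ g = QuotientGroup.mk' V g := by
    intro g
    letI := Fintype.ofFinite (Quotient (orbitRel (Subgroup.zpowers (g : X)) (X ⧸ S)))
    rw [show τ = MonoidHom.transfer (QuotientGroup.mk' V) from rfl,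
      MonoidHom.transfer_eq_prod_quotient_orbitRel_zpowers_quot]
    have hfix : (g : X) • ((1 : X) : X ⧸ S) = ((1 : X) : X ⧸ S) := by
      rw [MulAction.Quotient.smul_coe, QuotientGroup.eq]
      simp only [smul_eq_mul, mul_one]
      exact inv_mem g.2
    rw [Finset.prod_eq_single (Quotient.mk'' ((1 : X) : X ⧸ S))]
    · set q : Quotient (orbitRel (Subgroup.zpowers (g : X)) (X ⧸ S)) := Quotient.mk'' ((1 : X) : X ⧸ S)
      have hq : q.out = ((1 : X) : X ⧸ S) := by
        have h3 : q.out ∈ orbit (Subgroup.zpowers (g : X)) ((1 : X) : X ⧸ S) :=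
          orbitRel_apply.1 (Quotient.mk_out (s := orbitRel (Subgroup.zpowers (g : X)) (X ⧸ S)) _)
        obtain ⟨⟨u, hu⟩, hu'⟩ := h3
        rw [← hu']
        obtain ⟨n, rfl⟩ := Subgroup.mem_zpowers_iff.1 hu
        exact MulAction.fixedBy_subset_fixedBy_zpow _ _ n hfix
      have hx : q.out.out ∈ S := by
        have h3 : ((q.out.out : X) : X ⧸ S) = ((1 : X) : X ⧸ S) := by rw [QuotientGroup.out_eq', hq]
        rw [QuotientGroup.eq] at h3
        simpa using h3
      have hper : Function.minimalPeriod ((g : X) • ·) q.out = 1 := by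
        rw [hq]; exact Function.minimalPeriod_eq_one_iff_isFixedPt.2 hfix
      simp only [hper, pow_one]
      trans QuotientGroup.mk' V ((⟨q.out.out, hx⟩ : S)⁻¹ * g * ⟨q.out.out, hx⟩)
      · rfl
      · rw [map_mul, map_mul, map_inv, mul_comm, ← mul_assoc, mul_inv_cancel, one_mul]
    · intro q _ hq
      set x := q.out.out with hxdef
      have hx : x ∉ S := fun hx => hq (by
        have h3 : q.out = ((1 : X) : X ⧸ S) := by
          rw [← QuotientGroup.out_eq' q.out, ← hxdef, QuotientGroup.eq]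
          simpa using hx
        rw [← Quotient.out_eq' q, h3])
      rw [QuotientGroup.mk'_apply, QuotientGroup.eq_one_iff, Subgroup.mem_subgroupOf]
      refine h2 _ ?_ (x⁻¹ • x₀) ?_ ?_
      · exact QuotientGroup.out_conj_pow_minimalPeriod_mem S (g : X) q.out
      · intro he
        exact hx (inv_mem_iff.1 he)
      · show (x⁻¹ * (g : X) ^ _ * x) • x⁻¹ • x₀ = x⁻¹ • x₀
        rw [mul_smul, smul_inv_smul, mul_smul, pow_mem g.2 _]
    · intro h3; exact absurd (Finset.mem_univ _) h3
  let N : Subgroup X := τ.ker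
  have hmove : ∃ n ∈ N, ∃ w : β, n • w ≠ w := by
    by_contra hcon
    push Not at hcon
    apply h
    intro g x y' _ hgx _ w
    obtain ⟨k, rfl⟩ := exists_smul_eq X x w
    have h3 : g⁻¹ * k⁻¹ * g * k ∈ N := by
      rw [MonoidHom.mem_ker, map_mul, map_mul, map_mul, map_inv, map_inv, mul_comm (τ g)⁻¹,
        mul_assoc ((τ k)⁻¹), inv_mul_cancel, mul_one, inv_mul_cancel]
    have h4 := hcon _ h3 x
    rw [mul_smul, mul_smul, mul_smul, inv_smul_eq_iff, hgx, inv_smul_eq_iff] at h4
    exact h4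
  haveI := normal_transitive hp hβ N hmove
  have hnN : ¬ TwoFix N β := fun hN => h (twoFix_of_normal hp hβ N hmove hN)
  obtain ⟨n, hn1, hn2⟩ := trans_of_not_twoFix hp hβ hnN hy.symm hz.symm
  refine ⟨n, ?_, hn2⟩
  have h3 : τ (⟨(n : X), hn1⟩ : S) = 1 := n.2
  rw [hτ, QuotientGroup.mk'_apply, QuotientGroup.eq_one_iff, Subgroup.mem_subgroupOf] at h3
  exact h3

end Cfsg.Agent.Solv.PSq
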