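import Cfsg.Agent.Lib.Solv.PSq.Setup

/-!
Doubly transitive degree `p ^ 2 + 1`, imprimitive stabiliser: blocks and the action on blocks are of
Frobenius type.
-/

set_option autoImplicit false

namespace Cfsg.Agent.Solv.PSq.Sys

open MulAction

variable {G Ω : Type*} [Group G] [MulAction G Ω] {p : ℕ} (S : Sys G Ω p)

include S

theorem St_D2 {a b : Ω} {g : G} (hg : g ∈ St G a b) {c : Ω} (hc : c ∈ S.D1 b a) :
    g • c ∈ S.D1 b a := by
  obtain ⟨h1, h2⟩ := mem_St.1 hg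
  refine ⟨?_, fun e => hc.2 (MulAction.injective g (Eq.trans e h1.symm))⟩
  have := S.inv_fix h2 hc.1
  rwa [h1] at this

theorem exists_out {a b : Ω} (hab : a ≠ b) : ∃ c ∈ S.D1 b a, ¬ S.R a b c := by
  by_contra hcon
  push Not at hcon
  exact S.flat_false hab.symm fun c hc hca => hcon c ⟨hc, hca⟩

theorem transversal [Finite G] [FaithfulSMul G Ω] (hFT : ¬ S.FT) {a b : Ω} (hab : a ≠ b) :
    (∀ c ∈ S.D1 b a, ¬ S.R a b c) ∧
    (∀ c ∈ S.D1 b a, ∀ c' ∈ S.D1 b a, S.R a c c' → c = c') ∧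
    (∀ z, z ≠ a → ¬ S.R a b z → ∃ c ∈ S.D1 b a, S.R a c z) := by
  classical
  haveI := S.finite
  haveI := S.finite_blk a
  obtain ⟨c₀, hc₀, hout⟩ := S.exists_out hab
  have hsurj : ∀ z, z ≠ a → ¬ S.R a b z → ∃ c ∈ S.D1 b a, S.R a c z := by
    intro z hz hbz
    obtain ⟨g, h1, h2, h3⟩ := S.blk_trans hFT hab.symm hc₀.2 hz hout hbz
    exact ⟨g • c₀, S.St_D2 (mem_St.2 ⟨h1, h2⟩) hc₀, S.symm a _ _ h3⟩
  have hq : ∀ q : {q : S.Blk a // q ≠ S.blk b hab.symm}, ∃ c : S.D1 b a, S.blk c.1 c.2.2 = q.1 := by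
    rintro ⟨q, hq⟩
    obtain ⟨z, hz, rfl⟩ := S.blk_surj q
    obtain ⟨c, hc, hcz⟩ := hsurj z hz (fun h => hq ((S.blk_eq hab.symm hz).2 h).symm)
    exact ⟨⟨c, hc⟩, (S.blk_eq hc.2 hz).2 hcz⟩
  choose s hs using hq
  have hbij : Function.Bijective s := by
    letI := Fintype.ofFinite {q : S.Blk a // q ≠ S.blk b hab.symm}
    letI := Fintype.ofFinite (S.D1 b a)
    refine (Fintype.bijective_iff_injective_and_card s).2
      ⟨fun u v h => Subtype.ext (by rw [← hs u, ← hs v, h]), ?_⟩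
    rw [← Nat.card_eq_fintype_card, ← Nat.card_eq_fintype_card, Nat.card_coe_set_eq, S.ncard_D1 hab]
    letI := Fintype.ofFinite (S.Blk a)
    have h := S.card_blk a
    rw [Nat.card_eq_fintype_card] at h
    rw [Nat.card_eq_fintype_card, Fintype.card_subtype_compl, Fintype.card_subtype_eq, h]
  have hmem : ∀ c : S.D1 b a, ∃ q, s q = c ∧ q.1 = S.blk c.1 c.2.2 := fun c => by
    obtain ⟨q, rfl⟩ := hbij.2 c
    exact ⟨q, rfl, (hs q).symm⟩
  refine ⟨fun c hc h => ?_, fun c hc c' hc' h => ?_, hsurj⟩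
  · obtain ⟨q, -, h2⟩ := hmem ⟨c, hc⟩
    exact q.2 (h2.trans ((S.blk_eq hc.2 hab.symm).2 (S.symm a _ _ h)))
  · obtain ⟨q, h1, h2⟩ := hmem ⟨c, hc⟩
    obtain ⟨q', h1', h2'⟩ := hmem ⟨c', hc'⟩
    have h3 : q = q' := Subtype.ext (by rw [h2, h2']; exact (S.blk_eq hc.2 hc'.2).2 h)
    exact congrArg Subtype.val (h1.symm.trans (h3 ▸ h1'))

/-- Frobenius type on blocks implies Frobenius type on the set of blocks. -/
theorem ft_of_fb [Finite G] [FaithfulSMul G Ω] (hFB : S.FB) : S.FT := by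
  by_contra hFT
  apply hFT
  intro a g y z hga hz hyz hgy hgz
  have hay : a ≠ y := (S.ne_left a _ _ hgy).symm
  obtain ⟨-, huniq, hall⟩ := S.transversal hFT hay
  obtain ⟨k, hk, hk'⟩ := S.K_trans (S.symm a _ _ hgy)
  have hf : k * g ∈ St G a y := mem_St.2 ⟨by rw [mul_smul, hga, hk.1], by rw [mul_smul, hk']⟩
  obtain ⟨hfa, hfy⟩ := mem_St.1 hf
  obtain ⟨c, hc, hcz⟩ := hall z hz hyz
  have hzf : S.R a z ((k * g) • z) := by
    rw [mul_smul]; exact S.trans a _ _ _ hgz (hk.2 _ (S.ne_right hgz))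
  have hcf : (k * g) • c = c := (huniq c hc _ (S.St_D2 hf hc)
    (S.trans a _ _ _ (S.trans a _ _ _ hcz hzf) (S.symm a _ _ (S.inv_fix hfa hcz)))).symm
  have hfix : ∀ c' ∈ S.D1 y a, (k * g) • c' = c' := fun c' hc' =>
    hFB y (k * g) a c hfy (Ne.symm hc.2) hc.1 hfa hcf c' hc'.1
  have hK : k * g ∈ S.K a := by
    refine ⟨hfa, fun w hw => ?_⟩
    by_cases hyw : S.R a y w
    · have := S.inv_fix hfa hyw
      rw [hfy] at this
      exact S.trans a _ _ _ (S.symm a _ _ hyw) this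
    · obtain ⟨c', hc', hcw⟩ := hall w hw hyw
      have := S.inv_fix hfa hcw
      rw [hfix c' hc'] at this
      exact S.trans a _ _ _ (S.symm a _ _ hcw) this
  have := (S.K a).mul_mem ((S.K a).inv_mem hk) hK
  rwa [inv_mul_cancel_left] at this

/-- The stabiliser of a point in the kernel on blocks. -/
def KS (a b : Ω) : Subgroup G := S.K a ⊓ stabilizer G b

theorem mem_KS {a b : Ω} {g : G} : g ∈ S.KS a b ↔ g ∈ S.K a ∧ g • b = b := Iff.rfl

theorem KS_conj {a b c : Ω} {g k : G} (hga : g • a = a) (hgb : g • b = c) (hk : k ∈ S.KS a b) :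
    g * k * g⁻¹ ∈ S.KS a c := by
  obtain ⟨h1, h2⟩ := S.mem_KS.1 hk
  refine S.mem_KS.2 ⟨S.conj_K hga h1, ?_⟩
  rw [mul_smul, mul_smul, inv_smul_eq_iff.2 hgb.symm, h2, hgb]

theorem KS_card_le [Finite G] {a b c : Ω} (hb : b ≠ a) (hc : c ≠ a) :
    Nat.card (S.KS a b) ≤ Nat.card (S.KS a c) := by
  obtain ⟨g, h1, h2⟩ := S.move hb hc
  exact Nat.card_le_card_of_injective
    (fun k : S.KS a b => (⟨g * k * g⁻¹, S.KS_conj h1 h2 k.2⟩ : S.KS a c))
    fun u v h => Subtype.ext (mul_left_cancel (mul_right_cancel (congrArg Subtype.val h)))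

/-- Both actions doubly transitive is impossible. -/
theorem case_one [Finite G] [FaithfulSMul G Ω] (hFB : ¬ S.FB) (hFT : ¬ S.FT) {a b : Ω}
    (hab : a ≠ b) : False := by
  obtain ⟨hout, huniq, hall⟩ := S.transversal hFT hab
  have hD : ∀ c ∈ S.D1 b a, ∀ k ∈ S.KS a b, k • c = c := fun c hc k hk =>
    (huniq c hc _ (S.St_D2 (mem_St.2 ⟨(S.mem_KS.1 hk).1.1, (S.mem_KS.1 hk).2⟩) hc)
      ((S.mem_KS.1 hk).1.2 c hc.2)).symm
  have heq : ∀ c ∈ S.D1 b a, S.KS a b = S.KS a c := fun c hc =>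
    Subgroup.eq_of_le_of_card_ge
      (fun k hk => S.mem_KS.2 ⟨(S.mem_KS.1 hk).1, hD c hc k hk⟩) (S.KS_card_le hc.2 hab.symm)
  have hconv : ∀ z, z ≠ a → z ≠ b → (∀ k ∈ S.KS a b, k • z = z) → z ∈ S.D1 b a := by
    intro z hza hzb hfix
    by_cases hbz : S.R a b z
    · obtain ⟨w, hw, hwb, hwz⟩ := S.exists_third hbz hzb
      obtain ⟨k, hk, hkb, hkz⟩ := S.K_fix_trans hFB hbz hw hzb hwb
      rw [hfix k (S.mem_KS.2 ⟨hk, hkb⟩)] at hkz
      exact absurd hkz.symm hwz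
    · obtain ⟨c, hc, hcz⟩ := hall z hza hbz
      by_contra hne
      have hzc : z ≠ c := fun e => hne (e ▸ hc)
      obtain ⟨w, hw, hwc, hwz⟩ := S.exists_third hcz hzc
      obtain ⟨k, hk, hkc, hkz⟩ := S.K_fix_trans hFB hcz hw hzc hwc
      rw [hfix k (heq c hc ▸ S.mem_KS.2 ⟨hk, hkc⟩)] at hkz
      exact hwz hkz.symm
  refine S.sym_false hab fun c hc hca => ?_
  have hcb : c ≠ b := S.ne_right hc
  obtain ⟨g, hga, hgb⟩ := S.move hab.symm hca
  have hz : g⁻¹ • b ∈ S.D1 b a := by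
    refine hconv _ (fun e => hab.symm (by rw [← hga, ← inv_smul_eq_iff, e]))
      (fun e => hcb (hgb.symm.trans (inv_smul_eq_iff.1 e).symm)) fun k hk => ?_
    have h1 := (S.mem_KS.1 ((heq c ⟨hc, hca⟩).symm ▸ S.KS_conj hga hgb hk :
      g * k * g⁻¹ ∈ S.KS a b)).2
    rw [mul_smul, mul_smul] at h1
    exact eq_inv_smul_iff.2 h1
  have := S.inv g _ _ _ hz.1
  rwa [hga, hgb, smul_inv_smul] at this

/-- Blocks doubly transitive, set of blocks of Frobenius type, is impossible. -/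
theorem case_three [Finite G] [FaithfulSMul G Ω] (hFB : ¬ S.FB) (hFT : S.FT) {a b : Ω}
    (hab : a ≠ b) : False := by
  classical
  haveI := S.finite
  have hb : b ≠ a := hab.symm
  have hout : ∀ c ∈ S.D1 b a, ¬ S.R a b c := by
    intro c hc hbc
    refine S.flat_false hab fun d hd hdb => ?_
    obtain ⟨k, hk, hkb, hkc⟩ := S.K_fix_trans hFB hbc hd (S.ne_right hc.1) hdb
    have := S.St_D2 (mem_St.2 ⟨hk.1, hkb⟩) hc
    rw [hkc] at this
    exact this.1
  by_cases hsplit : ∃ c ∈ S.D1 b a, ∃ c' ∈ S.D1 b a, ¬ S.R a c c'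
  · obtain ⟨c₁, hc₁, c₂, hc₂, hne⟩ := hsplit
    obtain ⟨t, hta, htb⟩ := S.apply2 hab hab.symm
    have hd : ∀ c ∈ S.D1 b a, S.R a b (t⁻¹ • c) ∧ t⁻¹ • c ≠ b := by
      intro c hc
      refine ⟨?_, fun e => hc.2 ((inv_smul_eq_iff.1 e).trans htb)⟩
      have := S.inv t⁻¹ _ _ _ hc.1
      rwa [inv_smul_eq_iff.2 hta.symm, inv_smul_eq_iff.2 htb.symm] at this
    let W : Subgroup G := S.KS a b ⊓ (S.K a).comap (MulAut.conj t).toMonoidHom
    have hW : ∀ g, g ∈ W ↔ g ∈ S.KS a b ∧ t * g * t⁻¹ ∈ S.K a := fun g => Iff.rfl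
    have hSt : ∀ {g}, g ∈ St G a b → t * g * t⁻¹ ∈ St G a b := by
      intro g hg
      obtain ⟨h1, h2⟩ := mem_St.1 hg
      refine mem_St.2 ⟨?_, ?_⟩
      · rw [mul_smul, mul_smul, inv_smul_eq_iff.2 htb.symm, h2, htb]
      · rw [mul_smul, mul_smul, inv_smul_eq_iff.2 hta.symm, h1, hta]
    have hcom : ∀ g ∈ St G a b, ∀ h ∈ St G a b, g * h * g⁻¹ * h⁻¹ ∈ W := by
      intro g hg h hh
      refine (hW _).2 ⟨S.mem_KS.2 ⟨S.comm_mem_K hFT hb hg hh, ?_⟩, ?_⟩
      · have h3 : g * h * g⁻¹ * h⁻¹ ∈ St G a b := Subgroup.mul_mem _ (Subgroup.mul_mem _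
          (Subgroup.mul_mem _ hg hh) (Subgroup.inv_mem _ hg)) (Subgroup.inv_mem _ hh)
        exact (mem_St.1 h3).2
      · have := S.comm_mem_K hFT hb (hSt hg) (hSt hh)
        simpa [mul_assoc] using this
    have hKSt : ∀ {g}, g ∈ S.KS a b → g ∈ St G a b := fun {g} hg =>
      mem_St.2 ⟨(S.mem_KS.1 hg).1.1, (S.mem_KS.1 hg).2⟩
    have hnorm : ∀ g ∈ St G a b, ∀ w ∈ W, g * w * g⁻¹ ∈ W := by
      intro g hg w hw
      have := W.mul_mem (hcom g hg w (hKSt ((hW w).1 hw).1)) hw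
      simpa [mul_assoc] using this
    let X : Subgroup (S.M a b hb) := (S.K a).subgroupOf (S.M a b hb)
    let el : X → G := fun x => ((x : S.M a b hb) : G)
    have helK : ∀ x : X, el x ∈ S.K a := fun x => x.2
    have hsm : ∀ (x : X) (z : S.Cls a b hb), (x • z).1 = el x • z.1 := fun x z => rfl
    let b' : S.Cls a b hb := ⟨b, S.refl a b hb⟩
    have hst : ∀ {x : X}, x • b' = b' → el x ∈ S.KS a b := fun {x} hx =>
      S.mem_KS.2 ⟨helK x, congrArg Subtype.val hx⟩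
    let W' : Subgroup X :=
      { carrier := {x | x • b' = b' ∧ ∀ d : S.Cls a b hb, ∃ w ∈ W, (x • d).1 = w • d.1}
        one_mem' := ⟨one_smul _ b', fun d => ⟨1, W.one_mem, by rw [one_smul, one_smul]⟩⟩
        mul_mem' := fun {x y} hx hy => ⟨by rw [mul_smul, hy.1, hx.1], fun d => by
          obtain ⟨v, hv, hv'⟩ := hy.2 d
          obtain ⟨w, hw, hw'⟩ := hx.2 d
          refine ⟨el x * v * (el x)⁻¹ * w, W.mul_mem (hnorm _ (hKSt (hst hx.1)) v hv) hw, ?_⟩
          rw [mul_smul, hsm, hv', mul_smul _ w, ← hw', hsm, mul_smul, mul_smul, inv_smul_smul]⟩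
        inv_mem' := fun {x} hx => ⟨inv_smul_eq_iff.2 hx.1.symm, fun d => by
          obtain ⟨w, hw, hw'⟩ := hx.2 (x⁻¹ • d)
          rw [smul_inv_smul] at hw'
          exact ⟨w⁻¹, W.inv_mem hw, by rw [hw', inv_smul_smul]⟩⟩ }
    haveI := S.finite_cls a b hb
    haveI := S.Ksub_normal a b hb
    haveI := normal_transitive S.hp (S.card_cls a b hb) _ (S.K_moves a b hb)
    have hnot : ¬ TwoFix X (S.Cls a b hb) := fun hN =>
      hFB (S.fb_of_twoFix hb (twoFix_of_normal S.hp (S.card_cls a b hb) _ (S.K_moves a b hb) hN))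
    obtain ⟨w, hw, hwd⟩ := trans_of_abelian_quot S.hp (S.card_cls a b hb) hnot b' W'
      (fun x hx => hx.1)
      (fun x hx y hy => ⟨(stabilizer X b').mul_mem ((stabilizer X b').mul_mem
          ((stabilizer X b').mul_mem hx hy) ((stabilizer X b').inv_mem hx)) ((stabilizer X b').inv_mem hy),
        fun d => ⟨_, hcom _ (hKSt (hst hx)) _ (hKSt (hst hy)), rfl⟩⟩)
      (fun x hx y hy hxy => ⟨hx, fun d => by
        rcases eq_or_ne d b' with rfl | hd'
        · exact ⟨1, W.one_mem, by rw [one_smul, mem_stabilizer_iff.1 hx]⟩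
        obtain ⟨k, hk, hkb, hky⟩ := S.K_fix_trans hFB y.2 d.2 (fun e => hy (Subtype.ext e))
          (fun e => hd' (Subtype.ext e))
        refine ⟨el x * k * (el x)⁻¹ * k⁻¹, hcom _ (hKSt (hst hx)) _ (mem_St.2 ⟨hk.1, hkb⟩), ?_⟩
        have h1 : el x • y.1 = y.1 := congrArg Subtype.val hxy
        rw [hsm, ← hky, mul_smul, inv_smul_smul, mul_smul, inv_smul_eq_iff.2 h1.symm, mul_smul]⟩)
      ⟨t⁻¹ • c₁, (hd c₁ hc₁).1⟩ ⟨t⁻¹ • c₂, (hd c₂ hc₂).1⟩
      (fun e => (hd c₁ hc₁).2 (congrArg Subtype.val e))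
      (fun e => (hd c₂ hc₂).2 (congrArg Subtype.val e))
    obtain ⟨u, hu, hu'⟩ := hw.2 ⟨t⁻¹ • c₁, (hd c₁ hc₁).1⟩
    rw [hwd] at hu'
    have h2 := ((hW u).1 hu).2.2 c₁ hc₁.2
    rw [mul_smul, mul_smul, ← show t⁻¹ • c₂ = u • t⁻¹ • c₁ from hu', smul_inv_smul] at h2
    exact hne h2
  · push Not at hsplit
    obtain ⟨c₀, hc₀⟩ : (S.D1 b a).Nonempty := S.exists_other hab
    have hne0 := hout c₀ hc₀
    have hStK : St G a b ≤ S.K a := fun g hg => by
      obtain ⟨h1, h2⟩ := mem_St.1 hg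
      exact hFT a g b c₀ h1 hc₀.2 hne0 (by rw [h2]; exact S.refl a b hb)
        (hsplit c₀ hc₀ _ (S.St_D2 hg hc₀))
    have hsub : S.D1 b a ⊆ {z | S.R a c₀ z} := fun c hc => hsplit c₀ hc₀ c hc
    obtain ⟨c', hc'⟩ : ∃ c', {z | S.R a c₀ z} \ S.D1 b a = {c'} := by
      rw [← Set.ncard_eq_one, Set.ncard_sdiff hsub, S.hcard a c₀ hc₀.2, S.ncard_D1 hab]
      have := S.hp.pos
      omega
    have hc'mem : c' ∈ {z | S.R a c₀ z} \ S.D1 b a := by rw [hc']; rfl
    have hc'a : c' ≠ a := S.ne_right hc'mem.1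
    have hfix' : ∀ g ∈ St G a b, g • c' = c' := by
      intro g hg
      have : g • c' ∈ {z | S.R a c₀ z} \ S.D1 b a := by
        refine ⟨S.trans a _ _ _ hc'mem.1 ((hStK hg).2 c' hc'a), fun h => hc'mem.2 ?_⟩
        have := S.St_D2 (Subgroup.inv_mem _ hg) h
        rwa [inv_smul_smul] at this
      rwa [hc'] at this
    have heq : St G a c' = St G a b := (Subgroup.eq_of_le_of_card_ge
      (fun g hg => mem_St.2 ⟨(mem_St.1 hg).1, hfix' g hg⟩) (S.card_St hab hc'a.symm).ge).symm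
    obtain ⟨g₀, hg₀a, hg₀b⟩ := S.move hb hc'a
    let F : Set Ω := {z | z ≠ a ∧ ∀ g ∈ St G a b, g • z = z}
    have hbF : b ∈ F := ⟨hb, fun g hg => (mem_St.1 hg).2⟩
    have hFinv : ∀ z ∈ F, g₀ • z ∈ F := by
      rintro z ⟨hza, hz⟩
      refine ⟨fun e => hza (MulAction.injective g₀ (e.trans hg₀a.symm)), fun g hg => ?_⟩
      have hg' : g ∈ St G a c' := heq.symm ▸ hg
      have h1 := hz (g₀⁻¹ * g * g₀) (mem_St.2 ⟨by
          rw [mul_smul, mul_smul, hg₀a, (mem_St.1 hg').1, inv_smul_eq_iff, hg₀a], by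
          rw [mul_smul, mul_smul, hg₀b, (mem_St.1 hg').2, inv_smul_eq_iff, hg₀b]⟩)
      rwa [mul_smul, mul_smul, inv_smul_eq_iff] at h1
    have hpow : ∀ n : ℕ, g₀ ^ n • b ∈ F := by
      intro n
      induction n with
      | zero => rwa [pow_zero, one_smul]
      | succ n ih => rw [pow_succ', mul_smul]; exact hFinv _ ih
    have hMK : ∀ u : G, u • a = a → S.R a b (u • b) → u ∈ S.K a := by
      intro u hu hub
      obtain ⟨k, hk, hk'⟩ := S.K_trans hub
      have := (S.K a).mul_mem hk (hStK (show k⁻¹ * u ∈ St G a b from mem_St.2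
        ⟨by rw [mul_smul, hu, ((S.K a).inv_mem hk).1], by rw [mul_smul, inv_smul_eq_iff, hk']⟩))
      rwa [mul_inv_cancel_left] at this
    haveI := S.finite_blk a
    let φ := MulAction.toPermHom (stabilizer G a) (S.Blk a)
    let gg : stabilizer G a := ⟨g₀, hg₀a⟩
    have hgK : g₀ ∉ S.K a := fun h => hne0 (S.trans a _ _ _ (hg₀b ▸ h.2 b hb) (S.symm a _ _ hc'mem.1))
    have hall : ∀ q : S.Blk a, ∃ n : ℕ, S.blk (g₀ ^ n • b) (hpow n).1 = q := by
      have hinj : Function.Injective (fun f : φ.range => f.1 (S.blk b hb)) := by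
        rintro ⟨_, u, rfl⟩ ⟨_, v, rfl⟩ huv
        refine Subtype.ext ((inv_mul_eq_one (a := φ u) (b := φ v)).1 ?_)
        rw [← map_inv, ← map_mul, S.toPerm_eq_one_iff]
        refine hMK _ ((u⁻¹ * v : stabilizer G a)).2 (S.symm a _ _ ?_)
        refine (S.smul_blk_eq (u⁻¹ * v) hb hb).1 ?_
        rw [mul_smul, inv_smul_eq_iff]
        exact huv.symm
      have hcardT : Nat.card φ.range ≤ p := by
        exact (Nat.card_le_card_of_injective _ hinj).trans (S.card_blk a).le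
      have hord : orderOf (φ gg) ≠ 1 := fun h => hgK ((S.toPerm_eq_one_iff gg).1 (orderOf_eq_one_iff.1 h))
      intro q
      obtain ⟨u, hu⟩ := exists_smul_eq (stabilizer G a) (S.blk b hb) q
      have hle : Subgroup.zpowers (φ gg) ≤ φ.range := Subgroup.zpowers_le.2 ⟨gg, rfl⟩
      have hrot : φ u ∈ Subgroup.zpowers (φ gg) := by
        have hdvd : p ∣ Nat.card φ.range := by
          have h1 := (stabilizer φ.range (S.blk b hb)).index_mul_card
          rw [MulAction.index_stabilizer_of_transitive, S.card_blk] at h1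
          exact h1 ▸ dvd_mul_right _ _
        have hTp : Nat.card φ.range = p := le_antisymm hcardT (Nat.le_of_dvd Nat.card_pos hdvd)
        have hz : Nat.card (Subgroup.zpowers (φ gg)) = p := by
          have h1 := Subgroup.card_dvd_of_le hle
          rw [hTp, Nat.card_zpowers] at h1
          rw [Nat.card_zpowers]
          exact ((Nat.dvd_prime S.hp).1 h1).resolve_left hord
        rw [Subgroup.eq_of_le_of_card_ge hle (by rw [hTp, hz])]
        exact ⟨u, rfl⟩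
      obtain ⟨n, hn⟩ := mem_powers_iff_mem_zpowers.2 hrot
      refine ⟨n, ?_⟩
      have h2 : (gg ^ n) • S.blk b hb = q := by
        rw [← hu]
        have h3 : φ (gg ^ n) = φ u := by rw [map_pow]; exact hn
        exact congrArg (fun f : Equiv.Perm (S.Blk a) => f (S.blk b hb)) h3
      obtain ⟨h4, h5⟩ := S.smul_blk (gg ^ n) hb
      rw [← h2, h5]
      rfl
    have hone : ∀ z ∈ F, ∀ z' ∈ F, S.R a z z' → z = z' := by
      rintro z ⟨hza, hz⟩ z' ⟨hz'a, hz'⟩ hzz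
      by_contra hne'
      have hez : St G a b = St G a z := Subgroup.eq_of_le_of_card_ge
        (fun g hg => mem_St.2 ⟨(mem_St.1 hg).1, hz g hg⟩) (S.card_St hza.symm hab).le
      obtain ⟨w, hw, hwz, hwz'⟩ := S.exists_third hzz (Ne.symm hne')
      obtain ⟨k, hk, hkz, hkz'⟩ := S.K_fix_trans hFB hzz hw (Ne.symm hne') hwz
      rw [hz' k (hez ▸ mem_St.2 ⟨hk.1, hkz⟩)] at hkz'
      exact hwz' hkz'.symm
    refine S.fix_false hab ?_
    have hFeq : {z : Ω | ∀ g ∈ St G a b, g • z = z} = insert a F := by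
      ext z
      constructor
      · intro hz
        rcases eq_or_ne z a with rfl | hza
        · exact Set.mem_insert _ _
        · exact Set.mem_insert_of_mem _ ⟨hza, hz⟩
      · rintro (rfl | hz)
        · exact fun g hg => (mem_St.1 hg).1
        · exact hz.2
    rw [hFeq, Set.ncard_insert_of_notMem (fun h => h.1 rfl) (Set.toFinite _), ← Nat.card_coe_set_eq]
    refine congrArg (· + 1) (Eq.trans ?_ (S.card_blk a))
    refine Nat.card_congr (Equiv.ofBijective (fun z : F => S.blk z.1 z.2.1) ⟨?_, ?_⟩)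
    · rintro ⟨z, hz⟩ ⟨z', hz'⟩ h
      exact Subtype.ext (hone z hz z' hz' ((S.blk_eq hz.1 hz'.1).1 h))
    · intro q
      obtain ⟨n, hn⟩ := hall q
      exact ⟨⟨_, hpow n⟩, hn⟩

theorem fb [Finite G] [FaithfulSMul G Ω] {a b : Ω} (hab : a ≠ b) : S.FB := by
  by_contra hFB
  by_cases hFT : S.FT
  · exact S.case_three hFB hFT hab
  · exact S.case_one hFB hFT hab

theorem ft [Finite G] [FaithfulSMul G Ω] {a b : Ω} (hab : a ≠ b) : S.FT := S.ft_of_fb (S.fb hab)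

end Cfsg.Agent.Solv.PSq.Sys
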