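import Cfsg.Agent.Lib.Solv.PSq.CaseA

/-!
Doubly transitive degree `p ^ 2 + 1`, imprimitive stabiliser of Frobenius type on blocks: no element
other than the identity fixes three points.
-/

set_option autoImplicit false

namespace Cfsg.Agent.Solv.PSq

open MulAction

/-- A permutation of `p`-power order on `p` points with a fixed point is trivial. -/
theorem perm_one {α : Type*} [Finite α] {p n : ℕ} (hp : p.Prime) (hα : Nat.card α = p)
    (π : Equiv.Perm α) (hπ : π ^ p ^ n = 1) (x : α) (hx : π x = x) : π = 1 := by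
  classical
  letI := Fintype.ofFinite α
  haveI : Fact p.Prime := ⟨hp⟩
  rw [Nat.card_eq_fintype_card] at hα
  have h := Equiv.Perm.card_compl_support_modEq (σ := π) hπ
  rw [hα] at h
  have h1 : 0 < π.supportᶜ.card := Finset.card_pos.2 ⟨x, by simp [hx]⟩
  have h2 : p ∣ π.supportᶜ.card := (Nat.modEq_zero_iff_dvd.1 (h.trans (Nat.modEq_zero_iff_dvd.2 dvd_rfl)))
  have h3 := Nat.le_of_dvd h1 h2
  have h4 := Finset.card_compl π.support
  rw [hα] at h4
  refine Equiv.Perm.support_eq_empty_iff.1 (Finset.card_eq_zero.1 ?_)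
  have := Finset.card_le_univ π.support
  omega

/-- A permutation of `p`-power order on `p` points has order dividing `p`. -/
theorem perm_pow_eq_one {α : Type*} [Finite α] {p n : ℕ} (hp : p.Prime) (hα : Nat.card α = p)
    (π : Equiv.Perm α) (hπ : π ^ p ^ n = 1) : π ^ p = 1 := by
  haveI : Fact p.Prime := ⟨hp⟩
  obtain ⟨k, -, hk⟩ := (Nat.dvd_prime_pow hp).1 (orderOf_dvd_of_pow_eq_one hπ)
  have h := (hk ▸ orderOf_dvd_natCard π : p ^ k ∣ Nat.card (Equiv.Perm α))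
  rw [Nat.card_perm, hα] at h
  have hk1 : k ≤ 1 := by
    by_contra hlt
    have h1 : p * p ∣ p * (p - 1).factorial := by
      rw [Nat.mul_factorial_pred hp.ne_zero, ← sq]
      exact (pow_dvd_pow p (by omega : 2 ≤ k)).trans h
    have h2 := (Nat.Prime.dvd_factorial hp).1 (Nat.dvd_of_mul_dvd_mul_left hp.pos h1)
    have := hp.pos
    omega
  rw [← orderOf_dvd_iff_pow_eq_one, hk]
  exact pow_dvd_pow p hk1 |>.trans (pow_one p).dvd

namespace Sys

variable {G Ω : Type*} [Group G] [MulAction G Ω] {p : ℕ} (S : Sys G Ω p)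

include S

/-- The number of points seeing two given points in one block. -/
theorem pair_count {u v : Ω} (huv : u ≠ v) : {y | S.R y u v}.ncard = p - 1 := by
  classical
  haveI := S.finite
  letI := Fintype.ofFinite Ω
  let T := {z : Ω × Ω × Ω // z.2.1 ≠ z.2.2 ∧ S.R z.1 z.2.1 z.2.2}
  have e1 : T ≃ (w : {q : Ω × Ω // q.1 ≠ q.2}) × {y : Ω // S.R y w.1.1 w.1.2} :=
    { toFun := fun z => ⟨⟨z.1.2, z.2.1⟩, ⟨z.1.1, z.2.2⟩⟩
      invFun := fun w => ⟨(w.2.1, w.1.1), w.1.2, w.2.2⟩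
      left_inv := fun z => rfl
      right_inv := fun w => rfl }
  have e2 : T ≃ (w : {q : Ω × Ω // q.2 ≠ q.1}) × S.D1 w.1.1 w.1.2 :=
    { toFun := fun z => ⟨⟨(z.1.1, z.1.2.1), S.ne_left _ _ _ z.2.2⟩, ⟨z.1.2.2, z.2.2, Ne.symm z.2.1⟩⟩
      invFun := fun w => ⟨(w.1.1.1, w.1.1.2, w.2.1), Ne.symm w.2.2.2, w.2.2.1⟩
      left_inv := fun z => rfl
      right_inv := fun w => rfl }
  have h := (Nat.card_congr e1).symm.trans (Nat.card_congr e2)
  rw [Nat.card_sigma, Nat.card_sigma] at h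
  have hL : ∀ w : {q : Ω × Ω // q.1 ≠ q.2}, Nat.card {y : Ω // S.R y w.1.1 w.1.2} = {y | S.R y u v}.ncard := by
    rintro ⟨⟨x, y⟩, hxy⟩
    obtain ⟨g, h1, h2⟩ := S.apply2 huv hxy
    rw [← Nat.card_coe_set_eq]
    refine (Nat.card_congr ?_).symm
    exact
      { toFun := fun z => ⟨g • z.1, by
          show S.R (g • z.1) x y
          have := S.inv g _ _ _ z.2
          rwa [h1, h2] at this⟩
        invFun := fun z => ⟨g⁻¹ • z.1, by
          show S.R (g⁻¹ • z.1) u v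
          have := S.inv g⁻¹ _ _ _ z.2
          rwa [inv_smul_eq_iff.2 h1.symm, inv_smul_eq_iff.2 h2.symm] at this⟩
        left_inv := fun z => Subtype.ext (inv_smul_smul _ _)
        right_inv := fun z => Subtype.ext (smul_inv_smul _ _) }
  have hR : ∀ w : {q : Ω × Ω // q.2 ≠ q.1}, Nat.card (S.D1 w.1.1 w.1.2) = p - 1 := fun w => by
    rw [Nat.card_coe_set_eq, S.ncard_D1 w.2]
  rw [Finset.sum_congr rfl (fun w _ => hL w), Finset.sum_congr rfl (fun w _ => hR w), Finset.sum_const,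
    Finset.sum_const, smul_eq_mul, smul_eq_mul, Finset.card_univ, Finset.card_univ] at h
  have hc : Fintype.card {q : Ω × Ω // q.2 ≠ q.1} = Fintype.card {q : Ω × Ω // q.1 ≠ q.2} :=
    Fintype.card_congr (Equiv.subtypeEquivRight fun q => ne_comm)
  rw [hc] at h
  exact Nat.eq_of_mul_eq_mul_left (Fintype.card_pos_iff.2 ⟨⟨(u, v), huv⟩⟩) h

/-- Elements of the kernel of order dividing `p` have commuting actions. -/
theorem commute_Q [FaithfulSMul G Ω] (hFB : S.FB) {a : Ω} {g h : G} (hg : g ∈ S.K a)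
    (hh : h ∈ S.K a) (hgp : g ^ p = 1) (hhp : h ^ p = 1) : g * h = h * g := by
  refine eq_of_smul_eq_smul (α := Ω) fun z => ?_
  rcases eq_or_ne z a with rfl | hz
  · rw [mul_smul, mul_smul, hg.1, hh.1, hg.1]
  · haveI := S.finite_cls a z hz
    have h1 := comm_pow_p S.hp (S.card_cls a z hz) (S.twoFix_of_fb hFB hz)
      (⟨g, S.K_le_M hz hg⟩ : S.M a z hz) ⟨h, S.K_le_M hz hh⟩
      (fun w => Subtype.ext (show (g ^ p) • w.1 = w.1 by rw [hgp, one_smul]))
      (fun w => Subtype.ext (show (h ^ p) • w.1 = w.1 by rw [hhp, one_smul]))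
      ⟨z, S.refl a z hz⟩
    rw [mul_smul, mul_smul]
    exact congrArg Subtype.val h1

/-- The subgroup of the kernel of elements of order dividing `p`. -/
def Q [FaithfulSMul G Ω] (hFB : S.FB) (a : Ω) : Subgroup G where
  carrier := {g | g ∈ S.K a ∧ g ^ p = 1}
  one_mem' := ⟨(S.K a).one_mem, one_pow _⟩
  mul_mem' := fun {g h} hg hh => ⟨(S.K a).mul_mem hg.1 hh.1, by
    rw [Commute.mul_pow (S.commute_Q hFB hg.1 hh.1 hg.2 hh.2), hg.2, hh.2, one_mul]⟩
  inv_mem' := fun {g} hg => ⟨(S.K a).inv_mem hg.1, by rw [inv_pow, hg.2, inv_one]⟩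

section

variable [Finite G] [FaithfulSMul G Ω] (hFB : S.FB)

theorem mem_Q {a : Ω} {g : G} : g ∈ S.Q hFB a ↔ g ∈ S.K a ∧ g ^ p = 1 := Iff.rfl

theorem conj_Q {a : Ω} {g k : G} (hg : g • a = a) (hk : k ∈ S.Q hFB a) :
    g * k * g⁻¹ ∈ S.Q hFB a :=
  ⟨S.conj_K hg hk.1, by rw [conj_pow, hk.2, mul_one, mul_inv_cancel]⟩

theorem pelem_blocks {y w : Ω} {g : G} {n : ℕ} (hy : g • y = y) (hw : g • w = w) (hwy : w ≠ y)
    (hg : g ^ p ^ n = 1) : g ∈ S.K y := by
  haveI := S.finite_blk y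
  refine (S.toPerm_eq_one_iff ⟨g, hy⟩).1 (perm_one (n := n) S.hp (S.card_blk y) _ ?_ (S.blk w hwy) ?_)
  · rw [← map_pow, show (⟨g, hy⟩ : stabilizer G y) ^ p ^ n = 1 from Subtype.ext hg, map_one]
  · refine (S.smul_blk_eq _ hwy hwy).2 ?_
    show S.R y (g • w) w
    rw [hw]
    exact S.refl y w hwy

include hFB

theorem Q_free {a z : Ω} {k : G} (hk : k ∈ S.Q hFB a) (hz : z ≠ a) (hkz : k • z = z) : k = 1 := by
  haveI := S.finite
  haveI := S.finite_cls a z hz
  obtain ⟨hK, hkp⟩ := (S.mem_Q hFB).1 hk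
  let k' : S.M a z hz := ⟨k, S.K_le_M hz hK⟩
  have h1 : MulAction.toPermHom (S.M a z hz) (S.Cls a z hz) k' = 1 := by
    refine perm_one (n := 1) S.hp (S.card_cls a z hz) _ ?_ ⟨z, S.refl a z hz⟩ (Subtype.ext hkz)
    rw [← map_pow, pow_one, show k' ^ p = 1 from Subtype.ext hkp, map_one]
  have hcls : ∀ y, S.R a z y → k • y = y := fun y hy =>
    congrArg Subtype.val (congrArg (fun f : Equiv.Perm (S.Cls a z hz) => f ⟨y, hy⟩) h1)
  refine S.ext_fix hK.1 fun w hw => ?_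
  by_contra hne
  have hwz : ¬ S.R a z w := fun h => hne (hcls w h)
  have hsub : insert a {y | S.R a z y} ⊆ {y | S.R y w (k • w)} := by
    rintro y (rfl | hy)
    · exact hK.2 w hw
    · have hwy : w ≠ y := fun e => hwz (e ▸ hy)
      exact (S.pelem_blocks (n := 1) (hcls y hy) hK.1 (S.ne_right hy).symm
        (by rw [pow_one, hkp])).2 w hwy
  have h2 := Set.ncard_le_ncard hsub (Set.toFinite _)
  rw [Set.ncard_insert_of_notMem (a := a) (s := {y | S.R a z y}) (fun h : S.R a z a => S.ne_right h rfl)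
    (Set.toFinite _), S.hcard a z hz, S.pair_count (Ne.symm hne)] at h2
  omega

theorem Q_exists (a b : Ω) (hb : b ≠ a) : ∃ q ∈ S.Q hFB a, q ≠ 1 := by
  haveI : Fact p.Prime := ⟨S.hp⟩
  haveI := S.finite_cls a b hb
  haveI := S.Ksub_normal a b hb
  haveI := normal_transitive S.hp (S.card_cls a b hb) _ (S.K_moves a b hb)
  have h := (stabilizer ((S.K a).subgroupOf (S.M a b hb))
    (⟨b, S.refl a b hb⟩ : S.Cls a b hb)).index_mul_card
  rw [MulAction.index_stabilizer_of_transitive, S.card_cls a b hb] at h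
  rw [Nat.card_congr (Subgroup.subgroupOfEquivOfLe (S.K_le_M hb)).toEquiv] at h
  obtain ⟨q, hq⟩ := exists_prime_orderOf_dvd_card' (G := S.K a) p ⟨_, h.symm⟩
  refine ⟨(q : G), ⟨q.2, ?_⟩, fun e => ?_⟩
  · exact congrArg Subtype.val (orderOf_dvd_iff_pow_eq_one.1 hq.dvd : q ^ p = 1)
  · rw [show q = 1 from Subtype.ext e, orderOf_one] at hq
    exact S.hp.one_lt.ne hq

theorem Q_trans {a y z : Ω} (h : S.R a y z) : ∃ q ∈ S.Q hFB a, q • y = z := by
  haveI := S.finite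
  have hy := S.ne_left a y z h
  obtain ⟨q, hq, hq1⟩ := S.Q_exists hFB a y hy
  obtain ⟨hqK, hqp⟩ := (S.mem_Q hFB).1 hq
  have hord : orderOf q = p :=
    ((Nat.dvd_prime S.hp).1 (orderOf_dvd_of_pow_eq_one hqp)).resolve_left fun e =>
      hq1 (orderOf_eq_one_iff.1 e)
  let f : Subgroup.zpowers q → {w : Ω // S.R a y w} := fun u =>
    ⟨(u : G) • y, ((Subgroup.zpowers_le (H := S.K a)).2 hqK u.2).2 y hy⟩
  have hinj : Function.Injective f := by
    intro u v huv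
    have he : (u : G) • y = (v : G) • y := congrArg Subtype.val huv
    refine Subtype.ext ((inv_mul_eq_one (a := (u : G)) (b := (v : G))).1 ?_)
    exact S.Q_free hFB ((Subgroup.zpowers_le (H := S.Q hFB a)).2 hq ((u⁻¹ * v).2)) hy
      (by rw [mul_smul, ← he, inv_smul_smul])
  obtain ⟨u, hu⟩ := (hinj.bijective_of_nat_card_le (by
    rw [Nat.card_zpowers, hord]
    exact (S.hcard a y hy).le)).2 ⟨z, h⟩
  exact ⟨(u : G), (Subgroup.zpowers_le (H := S.Q hFB a)).2 hq u.2, congrArg Subtype.val hu⟩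

theorem Q_card (a b : Ω) (hb : b ≠ a) : Nat.card (S.Q hFB a) = p := by
  refine Eq.trans ?_ (S.hcard a b hb)
  rw [← Nat.card_coe_set_eq]
  refine Nat.card_congr (Equiv.ofBijective
    (fun q : S.Q hFB a => (⟨(q : G) • b, q.2.1.2 b hb⟩ : {z // S.R a b z})) ⟨?_, ?_⟩)
  · intro u v huv
    refine Subtype.ext ((inv_mul_eq_one (a := (u : G)) (b := (v : G))).1 ?_)
    have he : (u : G) • b = (v : G) • b := congrArg Subtype.val huv
    exact S.Q_free hFB (u⁻¹ * v).2 hb (by rw [mul_smul, ← he, inv_smul_smul])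
  · rintro ⟨z, hz⟩
    obtain ⟨q, hq, rfl⟩ := S.Q_trans hFB hz
    exact ⟨⟨q, hq⟩, rfl⟩

/-- An element of the kernel centralising `Q` lies in `Q`. -/
theorem mem_Q_of_commute {a : Ω} {k : G} (hk : k ∈ S.K a)
    (hc : ∀ q ∈ S.Q hFB a, k * q = q * k) : k ∈ S.Q hFB a := by
  refine ⟨hk, S.ext_fix ((S.K a).pow_mem hk p).1 fun z hz => ?_⟩
  obtain ⟨q, hq, hqz⟩ := S.Q_trans hFB (hk.2 z hz)
  have hcom : Commute q⁻¹ k := ((show Commute k q from hc q hq).symm).inv_left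
  have h1 : (q⁻¹ * k) • z = z := by rw [mul_smul, ← hqz, inv_smul_smul]
  have h2 : (q⁻¹ * k) ^ p = k ^ p := by
    rw [hcom.mul_pow, inv_pow, hq.2, inv_one, one_mul]
  rw [← h2]
  exact smul_pow_fix h1 p
where
  smul_pow_fix {g : G} {z : Ω} (h : g • z = z) : ∀ n : ℕ, g ^ n • z = z
    | 0 => by rw [pow_zero, one_smul]
    | n + 1 => by rw [pow_succ, mul_smul, h, smul_pow_fix h n]

theorem K_faithful {a y : Ω} {k : G} (hy : y ≠ a) (hk : k ∈ S.K a)
    (hfix : ∀ w, S.R a y w → k • w = w) : k = 1 := by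
  refine S.Q_free hFB (S.mem_Q_of_commute hFB hk fun q hq => ?_) hy (hfix y (S.refl a y hy))
  have hc : k * q * k⁻¹ * q⁻¹ = 1 := by
    refine S.Q_free hFB ((S.Q hFB a).mul_mem (S.conj_Q hFB hk.1 hq) ((S.Q hFB a).inv_mem hq)) hy ?_
    have h1 := ((S.K a).inv_mem hq.1).2 y hy
    rw [mul_smul, mul_smul, mul_smul, inv_smul_eq_iff.2 (hfix _ h1).symm, smul_inv_smul,
      hfix y (S.refl a y hy)]
  rwa [mul_inv_eq_one, mul_inv_eq_iff_eq_mul] at hc

theorem St_comm (hFT : S.FT) {a b : Ω} (hb : b ≠ a) {g h : G} (hg : g ∈ St G a b)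
    (hh : h ∈ St G a b) : g * h = h * g := by
  haveI := S.finite_cls a b hb
  obtain ⟨hga, hgb⟩ := mem_St.1 hg
  obtain ⟨hha, hhb⟩ := mem_St.1 hh
  let g' : S.M a b hb := ⟨g, hga, by rw [hgb]; exact S.refl a b hb⟩
  let h' : S.M a b hb := ⟨h, hha, by rw [hhb]; exact S.refl a b hb⟩
  have h1 : g * h * g⁻¹ * h⁻¹ = 1 := S.K_faithful hFB hb (S.comm_mem_K hFT hb hg hh) fun w hw =>
    congrArg Subtype.val (comm_fix S.hp (S.card_cls a b hb) (S.twoFix_of_fb hFB hb) g' h'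
      ⟨b, S.refl a b hb⟩ (Subtype.ext hgb) (Subtype.ext hhb) ⟨w, hw⟩)
  rwa [mul_inv_eq_one, mul_inv_eq_iff_eq_mul] at h1

theorem not_dvd_St {a b : Ω} (hb : b ≠ a) : ¬ p ∣ Nat.card (St G a b) := by
  haveI : Fact p.Prime := ⟨S.hp⟩
  intro h
  obtain ⟨g, hg⟩ := exists_prime_orderOf_dvd_card' (G := St G a b) p h
  obtain ⟨hga, hgb⟩ := mem_St.1 g.2
  have hgp : (g : G) ^ p = 1 := by
    exact congrArg Subtype.val (orderOf_dvd_iff_pow_eq_one.1 hg.dvd : g ^ p = 1)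
  have hK := S.pelem_blocks (n := 1) hga hgb hb (by rw [pow_one, hgp])
  have h1 := S.Q_free hFB ⟨hK, hgp⟩ hb hgb
  rw [show g = 1 from Subtype.ext h1, orderOf_one] at hg
  exact S.hp.one_lt.ne hg

theorem exists_P (hFT : S.FT) {a b : Ω} (hb : b ≠ a) :
    ∃ P : Subgroup G, P ≤ stabilizer G a ∧ Nat.card P = p ^ 2 ∧
      ∀ g : G, g • a = a → g ^ p ^ 2 = 1 → g ∈ P := by
  classical
  haveI : Fact p.Prime := ⟨S.hp⟩
  haveI := S.finite_blk a
  let φ := MulAction.toPermHom (stabilizer G a) (S.Blk a)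
  have h0 : TwoFix (stabilizer G a) (S.Blk a) := by
    intro u x y hxy hx hy q
    obtain ⟨x, hxa, rfl⟩ := S.blk_surj x
    obtain ⟨y, hya, rfl⟩ := S.blk_surj y
    obtain ⟨z, hza, rfl⟩ := S.blk_surj q
    rw [S.smul_blk_eq] at hx hy ⊢
    exact S.symm a _ _ ((hFT a (u : G) x y u.2 hya (fun e => hxy ((S.blk_eq hxa hya).2 e))
      (S.symm a _ _ hx) (S.symm a _ _ hy)).2 z hza)
  obtain ⟨π, hπ, hπo, -⟩ := exists_rot (X := stabilizer G a) S.hp (S.card_blk a)
  let C : Subgroup (stabilizer G a) := (Subgroup.zpowers π).comap φ ⊓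
    (Subgroup.centralizer ((S.Q hFB a : Subgroup G) : Set G)).comap (stabilizer G a).subtype
  have hCc : ∀ u ∈ C, ∀ q ∈ S.Q hFB a, (u : G) * q = q * (u : G) := fun u hu q hq =>
    (Subgroup.mem_centralizer_iff.1 hu.2 q hq).symm
  have hker : Nat.card (φ.comp C.subtype).ker ≤ p := by
    refine le_trans ?_ (S.Q_card hFB a b hb).le
    refine Nat.card_le_card_of_injective
      (fun u => (⟨(((u : C) : stabilizer G a) : G), S.mem_Q_of_commute hFB
        ((S.toPerm_eq_one_iff _).1 u.2) (hCc _ (u : C).2)⟩ : S.Q hFB a)) fun u v huv => ?_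
    obtain ⟨⟨⟨u, hu1⟩, hu2⟩, hu3⟩ := u
    obtain ⟨⟨⟨v, hv1⟩, hv2⟩, hv3⟩ := v
    obtain rfl : u = v := Subtype.mk.inj huv
    rfl
  have hrange : Nat.card (φ.comp C.subtype).range ≤ p := by
    refine le_trans (Nat.card_le_card_of_injective
      (Subgroup.inclusion (show (φ.comp C.subtype).range ≤ Subgroup.zpowers π from ?_))
      (Subgroup.inclusion_injective _)) (by rw [Nat.card_zpowers, hπo])
    rintro _ ⟨u, rfl⟩
    exact u.2.1
  have hC : Nat.card C ≤ p ^ 2 := by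
    rw [← (φ.comp C.subtype).ker.index_mul_card, Subgroup.index_ker, sq]
    exact Nat.mul_le_mul hrange hker
  have hmem : ∀ u : stabilizer G a, (∃ n, u ^ p ^ n = 1) → u ∈ C := by
    rintro u ⟨n, hn⟩
    refine ⟨rot_unique S.hp (S.card_blk a) h0 hπ hπo ⟨u, rfl⟩
      (perm_pow_eq_one (n := n) S.hp (S.card_blk a) _ (by rw [← map_pow, hn, map_one])), ?_⟩
    let c : Equiv.Perm (S.Q hFB a) :=
      { toFun := fun q => ⟨(u : G) * q * (u : G)⁻¹, S.conj_Q hFB u.2 q.2⟩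
        invFun := fun q => ⟨(u : G)⁻¹ * q * (u : G), by
          have := S.conj_Q hFB (inv_smul_eq_iff.2 (mem_stabilizer_iff.1 u.2).symm) q.2
          rwa [inv_inv] at this⟩
        left_inv := fun q => Subtype.ext (by simp [mul_assoc])
        right_inv := fun q => Subtype.ext (by simp [mul_assoc]) }
    have hpow : ∀ m : ℕ, ∀ q : S.Q hFB a, (((c ^ m) q : S.Q hFB a) : G) =
        ((u ^ m : stabilizer G a) : G) * q * ((u ^ m : stabilizer G a) : G)⁻¹ := by
      intro m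
      induction m with
      | zero => intro q; simp
      | succ m ih =>
        intro q
        rw [pow_succ', Equiv.Perm.mul_apply]
        show (u : G) * (((c ^ m) q : S.Q hFB a) : G) * (u : G)⁻¹ = _
        rw [ih q, pow_succ']
        simp [mul_assoc]
    have hc : c = 1 := by
      refine perm_one (n := n) S.hp (S.Q_card hFB a b hb) c (Equiv.ext fun q => Subtype.ext ?_) 1 ?_
      · rw [hpow, hn]; simp
      · exact Subtype.ext (show (u : G) * 1 * (u : G)⁻¹ = 1 by simp)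
    refine Subgroup.mem_centralizer_iff.2 fun q hq => ?_
    have h1 := congrArg (fun f : Equiv.Perm (S.Q hFB a) => ((f ⟨q, hq⟩ : S.Q hFB a) : G)) hc
    have h2 : (u : G) * q * (u : G)⁻¹ = q := h1
    exact (mul_inv_eq_iff_eq_mul.1 h2).symm
  obtain ⟨P₀⟩ : Nonempty (Sylow p (stabilizer G a)) := inferInstance
  have hP₀ : (P₀ : Subgroup (stabilizer G a)) ≤ C := fun u hu => hmem u (by
    obtain ⟨n, hn⟩ := P₀.2 ⟨u, hu⟩
    exact ⟨n, congrArg Subtype.val hn⟩)
  have hcard : Nat.card (P₀ : Subgroup (stabilizer G a)) = p ^ 2 := by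
    rw [Sylow.card_eq_multiplicity, S.card_stab hb, Nat.factorization_mul (pow_ne_zero _ S.hp.ne_zero)
      Nat.card_pos.ne', Finsupp.add_apply, Nat.Prime.factorization_pow S.hp, Finsupp.single_eq_same,
      Nat.factorization_eq_zero_of_not_dvd (S.not_dvd_St hFB hb), add_zero]
  refine ⟨(P₀ : Subgroup (stabilizer G a)).map (stabilizer G a).subtype,
    Subgroup.map_subtype_le _, ?_, fun g hg hgp => ?_⟩
  · rw [← hcard]
    exact Nat.card_congr ((P₀ : Subgroup (stabilizer G a)).equivMapOfInjective _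
      (Subgroup.subtype_injective _)).toEquiv.symm
  · rw [Subgroup.eq_of_le_of_card_ge hP₀ (by rw [hcard]; exact hC)]
    exact ⟨⟨g, hg⟩, hmem _ ⟨2, Subtype.ext hgp⟩, rfl⟩

/-- No element other than the identity fixes three points. -/
theorem three_point (hFT : S.FT) {a b : Ω} (hab : a ≠ b) :
    ∀ h ∈ St G a b, h ≠ 1 → ∀ c, c ≠ a → c ≠ b → h • c ≠ c := by
  classical
  haveI := S.finite
  have hb : b ≠ a := hab.symm
  obtain ⟨P, hPle, hPcard, hPmem⟩ := S.exists_P hFB hFT hb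
  have hPa : ∀ u ∈ P, u • a = a := fun u hu => hPle hu
  have hPpow : ∀ u ∈ P, u ^ p ^ 2 = 1 := fun u hu => by
    have h1 := pow_card_eq_one' (G := P) (x := ⟨u, hu⟩)
    rw [hPcard] at h1
    exact congrArg Subtype.val h1
  have hPfree : ∀ u ∈ P, ∀ z, z ≠ a → u • z = z → u = 1 := by
    intro u hu z hz huz
    rw [← orderOf_eq_one_iff]
    refine Nat.eq_one_of_dvd_coprimes ?_ (orderOf_dvd_of_pow_eq_one (hPpow u hu))
      (Subgroup.orderOf_dvd_natCard _ (mem_St.2 ⟨hPa u hu, huz⟩) : _ ∣ Nat.card (St G a z))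
    exact ((S.hp.coprime_iff_not_dvd).2 (S.not_dvd_St hFB hz)).pow_left 2
  have hQP : S.Q hFB a ≤ P := fun q hq => hPmem q hq.1.1 (by rw [sq, pow_mul, hq.2, one_pow])
  have hPconj : ∀ h ∈ St G a b, ∀ u ∈ P, h * u * h⁻¹ ∈ P := fun h hh u hu => by
    obtain ⟨h1, -⟩ := mem_St.1 hh
    refine hPmem _ ?_ (by rw [conj_pow, hPpow u hu, mul_one, mul_inv_cancel])
    rw [mul_smul, mul_smul, inv_smul_eq_iff.2 h1.symm, hPa u hu, h1]
  have hreg : ∀ z, z ≠ a → ∃ u ∈ P, u • b = z := by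
    intro z hz
    let f : P → {y : Ω // y ≠ a} := fun u =>
      ⟨(u : G) • b, fun e => hb (MulAction.injective (u : G) (e.trans (hPa u u.2).symm))⟩
    have hinj : Function.Injective f := fun u v huv => by
      refine Subtype.ext ((inv_mul_eq_one (a := (u : G)) (b := (v : G))).1 ?_)
      have he : (u : G) • b = (v : G) • b := congrArg Subtype.val huv
      exact hPfree _ (u⁻¹ * v).2 b hb (by rw [mul_smul, ← he, inv_smul_smul])
    obtain ⟨u, hu⟩ := (hinj.bijective_of_nat_card_le (by rw [hPcard, S.ncard_ne])).2 ⟨z, hz⟩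
    exact ⟨u, u.2, congrArg Subtype.val hu⟩
  let Fx : G → Set Ω := fun h => {z | z ≠ a ∧ h • z = z}
  let Rc : G → Subgroup G := fun h => P ⊓ Subgroup.centralizer {h}
  have hRc : ∀ h u, u ∈ Rc h ↔ u ∈ P ∧ h * u = u * h := fun h u =>
    and_congr_right fun _ => Subgroup.mem_centralizer_singleton_iff.trans eq_comm
  have hfix : ∀ h ∈ St G a b, ∀ u ∈ P, (h • u • b = u • b ↔ u ∈ Rc h) := by
    intro h hh u hu
    rw [hRc]
    refine ⟨fun e => ⟨hu, ?_⟩, fun e => by rw [← mul_smul, e.2, mul_smul, (mem_St.1 hh).2]⟩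
    have h1 : (u⁻¹ * (h * u * h⁻¹)) • b = b := by
      rw [mul_smul, mul_smul, mul_smul, inv_smul_eq_iff.2 (mem_St.1 hh).2.symm, e, inv_smul_smul]
    have h2 := hPfree _ (P.mul_mem (P.inv_mem hu) (hPconj h hh u hu)) b hb h1
    exact mul_inv_eq_iff_eq_mul.1 (inv_mul_eq_one.1 h2).symm
  have hcount : ∀ h ∈ St G a b, (Fx h).ncard = Nat.card (Rc h) := by
    intro h hh
    rw [← Nat.card_coe_set_eq]
    refine (Nat.card_congr (Equiv.ofBijective (fun u : Rc h => (⟨(u : G) • b,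
      fun e => hb (MulAction.injective (u : G) (e.trans (hPa u u.2.1).symm)),
      (hfix h hh u u.2.1).2 u.2⟩ : Fx h)) ⟨fun u v huv => ?_, fun z => ?_⟩)).symm
    · refine Subtype.ext ((inv_mul_eq_one (a := (u : G)) (b := (v : G))).1 ?_)
      have he : (u : G) • b = (v : G) • b := congrArg Subtype.val huv
      exact hPfree _ (P.mul_mem (P.inv_mem u.2.1) v.2.1) b hb (by rw [mul_smul, ← he, inv_smul_smul])
    · obtain ⟨u, hu, huz⟩ := hreg z.1 z.2.1
      exact ⟨⟨u, (hfix h hh u hu).1 (by rw [huz]; exact z.2.2)⟩, Subtype.ext huz⟩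
  have hsize : ∀ h ∈ St G a b, h ≠ 1 → ∀ c, c ≠ a → c ≠ b → h • c = c →
      Nat.card (Rc h) = p := by
    intro h hh hh1 c hca hcb hc
    obtain ⟨k, hk2, hk⟩ := (Nat.dvd_prime_pow S.hp).1 (hPcard ▸ Subgroup.card_dvd_of_le inf_le_left :
      Nat.card (Rc h) ∣ p ^ 2)
    have h2 : 2 ≤ (Fx h).ncard := by
      rw [← Set.ncard_pair hcb]
      refine Set.ncard_le_ncard ?_ (Set.toFinite _)
      rintro z (rfl | rfl)
      · exact ⟨hca, hc⟩
      · exact ⟨hb, (mem_St.1 hh).2⟩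
    rw [hcount h hh, hk] at h2
    interval_cases k
    · simp at h2
    · rw [hk, pow_one]
    · refine absurd (S.ext_fix (mem_St.1 hh).1 fun z hz => ?_) hh1
      obtain ⟨u, hu, rfl⟩ := hreg z hz
      refine (hfix h hh u hu).2 ?_
      exact (Subgroup.eq_of_le_of_card_ge (inf_le_left : Rc h ≤ P) (by rw [hk, hPcard])).ge hu
  have hclass : ∀ h ∈ St G a b, Nat.card (Rc h) = p → ∀ q ∈ S.Q hFB a, q ∈ Rc h → q ≠ 1 →
      Fx h = {z | S.R a b z} := by
    intro h hh hp' q hq hqR hq1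
    have hne : b ≠ q • b := fun e => hq1 (S.Q_free hFB hq hb e.symm)
    refine (Set.eq_of_subset_of_ncard_le (s := {z | S.R a b z}) (t := Fx h)
      (fun z hz => ⟨S.ne_right hz, hFB a h b (q • b)
      (mem_St.1 hh).1 hne (hq.1.2 b hb) (mem_St.1 hh).2 ((hfix h hh q (hQP hq)).2 hqR) z hz⟩)
      (by rw [hcount h hh, hp', S.hcard a b hb]) (Set.toFinite _)).symm
  intro h₀ hh₀ hh₀1 c₀ hc₀a hc₀b hc₀
  by_cases hA : ∃ h ∈ St G a b, h ≠ 1 ∧ ∀ z, S.R a b z → h • z = z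
  · obtain ⟨h, hh, hh1, hcls⟩ := hA
    obtain ⟨t, hta, htb⟩ := S.apply2 hab hb
    obtain ⟨hha, hhb⟩ := mem_St.1 hh
    have hh' : t * h * t⁻¹ ∈ St G a b := mem_St.2
      ⟨by rw [mul_smul, mul_smul, inv_smul_eq_iff.2 htb.symm, hhb, htb],
       by rw [mul_smul, mul_smul, inv_smul_eq_iff.2 hta.symm, hha, hta]⟩
    have hh'1 : t * h * t⁻¹ ≠ 1 := fun e => hh1 (by
      rwa [mul_inv_eq_one, mul_eq_left] at e)
    have hD : ∀ c ∈ S.D1 b a, (t * h * t⁻¹) • c = c := by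
      intro c hc
      have h1 := S.inv t⁻¹ _ _ _ hc.1
      rw [inv_smul_eq_iff.2 hta.symm, inv_smul_eq_iff.2 htb.symm] at h1
      rw [mul_smul, mul_smul, hcls _ h1, smul_inv_smul]
    obtain ⟨c₁, hc₁, hout⟩ := S.exists_out hab
    have hp' := hsize _ hh' hh'1 c₁ hc₁.2 (S.ne_right hc₁.1) (hD c₁ hc₁)
    have hins : Fx (t * h * t⁻¹) = insert b (S.D1 b a) := by
      refine (Set.eq_of_subset_of_ncard_le ?_ ?_ (Set.toFinite _)).symm
      · rintro z (rfl | hz)
        · exact ⟨hb, (mem_St.1 hh').2⟩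
        · exact ⟨hz.2, hD z hz⟩
      · rw [hcount _ hh', hp', Set.ncard_insert_of_notMem (fun e => S.ne_right e.1 rfl) (Set.toFinite _),
          S.ncard_D1 hab]
        have := S.hp.pos
        omega
    refine S.sym_false hab fun c hc hca => ?_
    obtain ⟨r, hr, hrb⟩ := hreg c hca
    have hrR : r ∈ Rc (t * h * t⁻¹) := (hfix _ hh' r hr).1 (by rw [hrb]; exact hD c ⟨hc, hca⟩)
    have hmem : r⁻¹ • b ∈ Fx (t * h * t⁻¹) :=
      ⟨fun e => hb (((inv_smul_eq_iff).1 e).trans (hPa r hr)),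
        (hfix _ hh' _ (P.inv_mem hr)).2 ((Rc (t * h * t⁻¹)).inv_mem hrR)⟩
    rw [hins] at hmem
    rcases hmem with hmem | hmem
    · exact absurd (hrb.symm.trans (inv_smul_eq_iff.1 hmem).symm) (S.ne_right hc)
    · have := S.inv r _ _ _ hmem.1
      rwa [hrb, hPa r hr, smul_inv_smul] at this
  push Not at hA
  have hQ1 : ∀ h ∈ St G a b, h ≠ 1 → Nat.card (Rc h) = p → Rc h ⊓ S.Q hFB a = ⊥ := by
    intro h hh hh1 hp'
    refine (Subgroup.eq_bot_iff_forall _).2 fun q hq => by_contra fun hq1 => ?_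
    obtain ⟨z, hz, hzne⟩ := hA h hh hh1
    have := hclass h hh hp' q hq.2 hq.1 hq1
    exact hzne ((this.symm ▸ hz : z ∈ Fx h)).2
  have hmod : ∀ h ∈ St G a b, h ≠ 1 → Nat.card (Rc h) = p → ∀ u ∈ P,
      h * u * h⁻¹ * u⁻¹ ∈ S.Q hFB a := by
    intro h hh hh1 hp' u hu
    let f : Rc h × S.Q hFB a → P := fun v => ⟨(v.1 : G) * v.2, P.mul_mem v.1.2.1 (hQP v.2.2)⟩
    have hinj : Function.Injective f := fun v w hvw =>
      Subgroup.mul_injective_of_disjoint (disjoint_iff.2 (hQ1 h hh hh1 hp')) (congrArg Subtype.val hvw)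
    obtain ⟨⟨⟨r, hr⟩, ⟨q, hq⟩⟩, hrq⟩ := (hinj.bijective_of_nat_card_le (by
      rw [Nat.card_prod, hp', S.Q_card hFB a b hb, hPcard, sq])).2 ⟨u, hu⟩
    have he : r * q = u := congrArg Subtype.val hrq
    rw [← he, show h * (r * q) * h⁻¹ * (r * q)⁻¹ = (h * r) * q * h⁻¹ * q⁻¹ * r⁻¹ by group,
      ((hRc h r).1 hr).2, show r * h * q * h⁻¹ * q⁻¹ * r⁻¹ = r * (h * q * h⁻¹ * q⁻¹) * r⁻¹ by group]
    exact S.conj_Q hFB (hPa r ((hRc h r).1 hr).1)
      ((S.Q hFB a).mul_mem (S.conj_Q hFB (mem_St.1 hh).1 hq) ((S.Q hFB a).inv_mem hq))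
  have huniq : ∀ h ∈ St G a b, h ≠ 1 → Nat.card (Rc h) = p → ∀ h' ∈ St G a b, h' ≠ 1 →
      Nat.card (Rc h') = p → Rc h ≤ Rc h' := by
    intro h hh hh1 hp' h' hh' hh'1 hp'' r hr
    obtain ⟨hrP, hrh⟩ := (hRc h r).1 hr
    have hcom : h * h' = h' * h := S.St_comm hFB hFT hb hh hh'
    have h1 : h' * r * h'⁻¹ ∈ Rc h := by
      refine (hRc h _).2 ⟨hPconj h' hh' r hrP, ?_⟩
      exact (((show Commute h h' from hcom).mul_right (show Commute h r from hrh)).mul_right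
        (show Commute h h' from hcom).inv_right).eq
    have h2 : h' * r * h'⁻¹ * r⁻¹ ∈ Rc h ⊓ S.Q hFB a :=
      ⟨(Rc h).mul_mem h1 ((Rc h).inv_mem hr), hmod h' hh' hh'1 hp'' r hrP⟩
    rw [hQ1 h hh hh1 hp', Subgroup.mem_bot, mul_inv_eq_one, mul_inv_eq_iff_eq_mul] at h2
    exact (hRc h' r).2 ⟨hrP, h2⟩
  have hsame : ∀ h ∈ St G a b, h ≠ 1 → Nat.card (Rc h) = p → Fx h = Fx h₀ := by
    intro h hh hh1 hp'
    have hp₀ := hsize h₀ hh₀ hh₀1 c₀ hc₀a hc₀b hc₀
    have heq : Rc h = Rc h₀ := le_antisymm (huniq h hh hh1 hp' h₀ hh₀ hh₀1 hp₀)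
      (huniq h₀ hh₀ hh₀1 hp₀ h hh hh1 hp')
    ext z
    refine and_congr_right fun hz => ?_
    obtain ⟨u, hu, rfl⟩ := hreg z hz
    rw [hfix h hh u hu, hfix h₀ hh₀ u hu, heq]
  let L : Ω → Ω → Set Ω := fun x y => {z | z = x ∨ z = y ∨ ∃ g ∈ St G x y, g ≠ 1 ∧ g • z = z}
  have hL : L a b = {z | h₀ • z = z} := by
    ext z
    constructor
    · intro hz
      rcases eq_or_ne z a with rfl | hza
      · exact (mem_St.1 hh₀).1
      rcases eq_or_ne z b with rfl | hzb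
      · exact (mem_St.1 hh₀).2
      rcases hz with hz | hz | ⟨g, hg, hg1, hgz⟩
      · exact absurd hz hza
      · exact absurd hz hzb
      · have : z ∈ Fx g := ⟨hza, hgz⟩
        rw [hsame g hg hg1 (hsize g hg hg1 z hza hzb hgz)] at this
        exact this.2
    · exact fun hz => Or.inr (Or.inr ⟨h₀, hh₀, hh₀1, hz⟩)
  have hconjSt : ∀ (f : G) (x y : Ω) (g : G), g ∈ St G x y → f * g * f⁻¹ ∈ St G (f • x) (f • y) :=
    fun f x y g hg => mem_St.2
      ⟨by rw [mul_smul, inv_smul_smul, mul_smul, (mem_St.1 hg).1],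
       by rw [mul_smul, inv_smul_smul, mul_smul, (mem_St.1 hg).2]⟩
  have htr : ∀ (f : G) (x y z : Ω), z ∈ L x y → f • z ∈ L (f • x) (f • y) := by
    intro f x y z hz
    rcases hz with rfl | rfl | ⟨g, hg, hg1, hgz⟩
    · exact Or.inl rfl
    · exact Or.inr (Or.inl rfl)
    · refine Or.inr (Or.inr ⟨f * g * f⁻¹, hconjSt f x y g hg, fun e => hg1 (by
        rwa [mul_inv_eq_one, mul_eq_left] at e), ?_⟩)
      rw [mul_smul, inv_smul_smul, mul_smul, hgz]
  have himg : ∀ (f : G) (x y : Ω), L (f • x) (f • y) = (f • ·) '' L x y := by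
    intro f x y
    refine Set.Subset.antisymm (fun z hz => ⟨f⁻¹ • z, ?_, smul_inv_smul _ _⟩) ?_
    · have := htr f⁻¹ _ _ z hz
      rwa [inv_smul_smul, inv_smul_smul] at this
    · rintro _ ⟨w, hw, rfl⟩
      exact htr f x y w hw
  have hcard : ∀ x y : Ω, x ≠ y → (L x y).ncard = p + 1 := by
    intro x y hxy
    obtain ⟨f, rfl, rfl⟩ := S.apply2 hab hxy
    rw [himg, Set.ncard_image_of_injective _ (MulAction.injective f), hL,
      show {z : Ω | h₀ • z = z} = insert a (Fx h₀) from ?_,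
      Set.ncard_insert_of_notMem (fun e => e.1 rfl) (Set.toFinite _), hcount h₀ hh₀,
      hsize h₀ hh₀ hh₀1 c₀ hc₀a hc₀b hc₀]
    ext z
    constructor
    · intro hz
      rcases eq_or_ne z a with rfl | hza
      · exact Set.mem_insert _ _
      · exact Set.mem_insert_of_mem _ ⟨hza, hz⟩
    · rintro (rfl | hz)
      · exact (mem_St.1 hh₀).1
      · exact hz.2
  have hkey : ∀ (x y : Ω) (h : G), x ≠ y → h ∈ St G x y → h ≠ 1 → ∀ c, c ≠ x → c ≠ y →
      h • c = c → L x y = {z | h • z = z} := by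
    intro x y h hxy hh hh1 c hcx hcy hc
    refine (Set.eq_of_subset_of_ncard_le (s := {z | h • z = z}) (t := L x y) (fun z hz => Or.inr (Or.inr ⟨h, hh, hh1, hz⟩)) ?_
      (Set.toFinite _)).symm
    rw [hcard x y hxy]
    obtain ⟨f, h1, h2⟩ := S.apply2 hxy hab
    have hh' : f * h * f⁻¹ ∈ St G a b := by rw [← h1, ← h2]; exact hconjSt f x y h hh
    have hh'1 : f * h * f⁻¹ ≠ 1 := fun e => hh1 (by rwa [mul_inv_eq_one, mul_eq_left] at e)
    have h3 := hsize _ hh' hh'1 (f • c)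
      (fun e => hcx (MulAction.injective f (e.trans h1.symm)))
      (fun e => hcy (MulAction.injective f (e.trans h2.symm)))
      (by rw [mul_smul, inv_smul_smul, mul_smul, hc])
    rw [show p + 1 = (insert a (Fx (f * h * f⁻¹))).ncard by
      rw [Set.ncard_insert_of_notMem (fun e => e.1 rfl) (Set.toFinite _), hcount _ hh', h3]]
    refine Set.ncard_le_ncard_of_injOn (f⁻¹ • ·) ?_ (MulAction.injective f⁻¹).injOn (Set.toFinite _)
    intro z hz
    have h4 : (f * h * f⁻¹) • z = z := by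
      rcases hz with rfl | hz
      · exact (mem_St.1 hh').1
      · exact hz.2
    rw [mul_smul, mul_smul] at h4
    exact eq_inv_smul_iff.2 h4
  refine S.line_false L (fun x y _ => ?_) hcard (fun x y _ => Or.inl rfl) (fun x y z hxy hz hzx => ?_)
  · ext z
    simp only [L, Set.mem_ofPred_eq, St_symm x y]
    exact or_left_comm
  · rcases eq_or_ne z y with rfl | hzy
    · rfl
    rcases hz with hz | hz | ⟨g, hg, hg1, hgz⟩
    · exact absurd hz hzx
    · exact absurd hz hzy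
    · rw [hkey x y g hxy hg hg1 z hzx hzy hgz,
        hkey x z g hzx.symm (mem_St.2 ⟨(mem_St.1 hg).1, hgz⟩) hg1 y hxy.symm hzy.symm (mem_St.1 hg).2]

end

end Sys

end Cfsg.Agent.Solv.PSq
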