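import Cfsg.Prelude.Def_LieExceptional
import Cfsg.Agent.Lib.Solv.PSq.CaseC
import Cfsg.Agent.Lib.Lie.Zassenhaus
import Cfsg.Agent.Lib.Lie.ZassenhausHalf
import Cfsg.Agent.Lib.Lie.Feit.Main
import Cfsg.Agent.Lib.Classical.Dickson.Tools

/-!
Doubly transitive groups of degree `p ^ 2 + 1` are doubly primitive, except the group of order 20.
-/

set_option autoImplicit false

namespace Cfsg.Agent.Solv.PSq

open MulAction

variable {G Ω : Type*} [Group G] [MulAction G Ω] {p : ℕ}

/-- The remaining case is a Zassenhaus group with a small two point stabiliser, which does not exist. -/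
theorem Sys.no_sys [Finite G] [Fintype Ω] [FaithfulSMul G Ω] (S : Sys G Ω p) : False := by
  classical
  have hp3 := S.three_le
  have hpodd : Odd p := S.hp.odd_of_ne_two S.hodd
  have hn : Fintype.card Ω = p ^ 2 + 1 := by rw [← Nat.card_eq_fintype_card, S.hΩ]
  haveI : Nontrivial Ω := Fintype.one_lt_card_iff_nontrivial.1 (by rw [hn]; nlinarith)
  obtain ⟨a, b, hab⟩ := exists_pair_ne Ω
  have hb : b ≠ a := hab.symm
  have hFB := S.fb hab
  have hFT := S.ft hab
  have h3 : ∀ g : G, ∀ x y z : Ω, x ≠ y → y ≠ z → x ≠ z → g • x = x → g • y = y → g • z = z → g = 1 := by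
    intro g x y z hxy hyz hxz hx hy hz
    obtain ⟨f, h1, h2⟩ := S.apply2 hxy hab
    by_contra hg
    refine S.three_point hFB hFT hab (f * g * f⁻¹) (mem_St.2
      ⟨by rw [← h1, mul_smul, inv_smul_smul, mul_smul, hx],
       by rw [← h2, mul_smul, inv_smul_smul, mul_smul, hy]⟩)
      (fun e => hg (by rwa [mul_inv_eq_one, mul_eq_left] at e)) (f • z)
      (fun e => hxz (MulAction.injective f (h1.trans e.symm)))
      (fun e => hyz (MulAction.injective f (h2.trans e.symm)))
      (by rw [mul_smul, inv_smul_smul, mul_smul, hz])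
  set e := Nat.card (St G a b) with he
  have hele : e ≤ p - 1 := by
    obtain ⟨d, hd, hdb⟩ := S.exists_other hb
    rw [← S.ncard_D1 hb, ← Nat.card_coe_set_eq]
    refine Nat.card_le_card_of_injective (fun g : St G a b => (⟨(g : G) • d, ?_, fun h => hdb
      (MulAction.injective (g : G) (Eq.trans h (mem_St.1 g.2).2.symm))⟩ : S.D1 a b)) fun u v huv => ?_
    · have := S.inv_fix (mem_St.1 g.2).1 hd
      rwa [(mem_St.1 g.2).2] at this
    · have h1 : (u : G) • d = (v : G) • d := congrArg Subtype.val huv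
      refine Subtype.ext ((inv_mul_eq_one (a := (u : G)) (b := (v : G))).1 ?_)
      exact h3 _ a b d hab (Ne.symm hdb) (S.ne_right hd).symm (mem_St.1 (u⁻¹ * v).2).1
        (mem_St.1 (u⁻¹ * v).2).2 (by rw [mul_smul, ← h1, inv_smul_smul])
  have hpp : (p - 1) * (p + 1) = p ^ 2 - 1 := by
    have := Nat.sq_sub_sq p 1
    rw [one_pow] at this
    rw [this, mul_comm]
  have hbig : 2 * (p - 1) < p ^ 2 - 1 := by
    rw [← hpp, mul_comm 2]
    exact Nat.mul_lt_mul_of_pos_left (by omega) (by omega)
  have hmod : p ^ 2 % 4 = 1 := by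
    obtain ⟨k, rfl⟩ := hpodd
    rw [show (2 * k + 1) ^ 2 = 4 * (k * k + k) + 1 by ring]
    omega
  have hmove2 : ∀ x y : Ω, x ≠ y → ∃ s : G, s • x = y ∧ s • y = x := fun x y hxy =>
    S.apply2 hxy hxy.symm
  by_cases he1 : e = 1
  · -- sharply doubly transitive of degree 2 mod 4
    have hbot : ∀ x y : Ω, x ≠ y → ∀ g : G, g • x = x → g • y = y → g = 1 := by
      intro x y hxy g hx hy
      have h1 : Nat.card (St G x y) = 1 := by rw [← S.card_St hab hxy]; exact he1
      exact Subgroup.eq_bot_iff_forall _ |>.1 (Subgroup.eq_bot_of_card_eq _ h1) g (mem_St.2 ⟨hx, hy⟩)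
    have hinv : ∀ x y : Ω, x ≠ y → ∀ s : G, s • x = y → s • y = x → s * s = 1 := fun x y hxy s h1 h2 =>
      hbot x y hxy _ (by rw [mul_smul, h1, h2]) (by rw [mul_smul, h2, h1])
    have hfree : ∀ x y : Ω, x ≠ y → ∀ s : G, s • x = y → s • y = x → ∀ z : Ω, s • z ≠ z := by
      intro x y hxy s h1 h2 z hz
      let π : Equiv.Perm Ω := MulAction.toPermHom G Ω s
      have hcard := Equiv.Perm.card_compl_support_modEq (p := 2) (n := 1) (σ := π)
        (by rw [pow_one, ← map_pow, sq, hinv x y hxy s h1 h2, map_one])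
      have hsupp : π.supportᶜ = {z} := by
        ext w
        simp only [Finset.mem_compl, Equiv.Perm.mem_support, not_not, Finset.mem_singleton]
        refine ⟨fun hw => by_contra fun hne => ?_, fun hw => hw ▸ hz⟩
        exact hxy (by rw [← h1, hbot w z hne s hw hz, one_smul])
      rw [hsupp, Finset.card_singleton, hn] at hcard
      have h2' : p ^ 2 % 2 = 1 := by omega
      rw [Nat.ModEq] at hcard
      omega
    obtain ⟨c, hca, hcb⟩ : ∃ c, c ≠ a ∧ c ≠ b := by
      obtain ⟨d, hd, hdb⟩ := S.exists_other hb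
      exact ⟨d, S.ne_right hd, hdb⟩
    obtain ⟨s, hs1, hs2⟩ := hmove2 a b hab
    obtain ⟨t, ht1, ht2⟩ := hmove2 a c hca.symm
    have hss := hinv a b hab s hs1 hs2
    have hst : s * t ≠ 1 := fun h => hcb (by
      have h1 : t = s := by rw [← mul_left_cancel_iff (a := s), h, hss]
      rw [← ht1, h1, hs1])
    -- the product of two such involutions has no fixed point
    have hstfree : ∀ z : Ω, (s * t) • z ≠ z := by
      intro z hz
      rw [mul_smul] at hz
      have hsinv : s⁻¹ = s := inv_eq_of_mul_eq_one_right hss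
      have htz : t • z = s • z := by rw [← hsinv, eq_inv_smul_iff]; exact hz
      have hne : t • z ≠ z := hfree a c hca.symm t ht1 ht2 z
      have htt : t • t • z = z := by rw [← mul_smul, hinv a c hca.symm t ht1 ht2, one_smul]
      refine hst (hbot z (t • z) (Ne.symm hne) _ (by rw [mul_smul]; exact hz) ?_)
      rw [mul_smul, htt, ← htz]
    -- an element without fixed points is an involution
    have hcardG : Nat.card G = (p ^ 2 + 1) * p ^ 2 := by
      haveI : IsPretransitive G Ω := ⟨fun u v => by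
        rcases eq_or_ne u v with rfl | huv
        · exact ⟨1, one_smul _ _⟩
        · exact (S.apply2 huv huv.symm).imp fun g h => h.1⟩
      rw [← (stabilizer G a).index_mul_card, MulAction.index_stabilizer_of_transitive, S.hΩ,
        S.card_stab hb, ← he, he1, mul_one]
    have hinvol : ∀ g : G, (∀ z : Ω, g • z ≠ z) → g * g = 1 := by
      letI := Fintype.ofFinite G
      let A := Finset.univ.filter fun g : G => ∀ z : Ω, g • z ≠ z
      let I := A.filter fun g => g * g = 1
      have hIc : (I.card) * (p ^ 2 + 1) = (p ^ 2 + 1) * p ^ 2 := by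
        have hI : ∀ q : {q : Ω × Ω // q.1 ≠ q.2}, ∃ s : G, s • q.1.1 = q.1.2 ∧ s • q.1.2 = q.1.1 :=
          fun q => hmove2 _ _ q.2
        choose σ hσ using hI
        let f : {q : Ω × Ω // q.1 ≠ q.2} → I × Ω := fun q =>
          (⟨σ q, Finset.mem_filter.2 ⟨Finset.mem_filter.2 ⟨Finset.mem_univ _,
            hfree _ _ q.2 _ (hσ q).1 (hσ q).2⟩, hinv _ _ q.2 _ (hσ q).1 (hσ q).2⟩⟩, q.1.1)
        have hbij : Function.Bijective f := by
          refine ⟨fun q q' h => ?_, fun v => ?_⟩
          · have h1 : σ q = σ q' := congrArg (fun w : I × Ω => (w.1 : G)) h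
            have h2 : q.1.1 = q'.1.1 := congrArg Prod.snd h
            refine Subtype.ext (Prod.ext h2 ?_)
            rw [← (hσ q).1, ← (hσ q').1, h1, h2]
          · obtain ⟨⟨g, hg⟩, x⟩ := v
            obtain ⟨hgA, hgg⟩ := Finset.mem_filter.1 hg
            have hne : x ≠ g • x := fun h => (Finset.mem_filter.1 hgA).2 x h.symm
            refine ⟨⟨(x, g • x), hne⟩, Prod.ext (Subtype.ext ?_) rfl⟩
            show σ ⟨(x, g • x), hne⟩ = g
            obtain ⟨h4, h5⟩ := hσ ⟨(x, g • x), hne⟩
            refine (inv_mul_eq_one.1 (hbot x (g • x) hne _ ?_ ?_)).symm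
            · rw [mul_smul, h4, inv_smul_smul]
            · rw [mul_smul, h5, inv_smul_eq_iff, ← mul_smul, hgg, one_smul]
        have h1 := Fintype.card_of_bijective hbij
        have h3' : (Finset.univ.filter fun z : Ω × Ω => z.1 ≠ z.2) = Finset.univ.offDiag := by
          ext z; simp
        rw [Fintype.card_prod, Fintype.card_coe, Fintype.card_subtype, h3', Finset.offDiag_card,
          Finset.card_univ, hn] at h1
        rw [← h1, ← Nat.sub_one_mul, Nat.add_sub_cancel, mul_comm]
      have hI2 : I.card = p ^ 2 := Nat.eq_of_mul_eq_mul_left (Nat.succ_pos (p ^ 2)) (by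
        rw [Nat.mul_comm]; exact hIc)
      let B := Finset.univ.filter fun g : G => ∃ z : Ω, g • z = z
      have hB : B.card = 1 + (p ^ 2 + 1) * (p ^ 2 - 1) := by
        have hsplit : B = insert (1 : G) (Finset.univ.biUnion fun z : Ω =>
            Finset.univ.filter fun g : G => g • z = z ∧ g ≠ 1) := by
          ext g
          simp only [B, Finset.mem_filter, Finset.mem_univ, true_and, Finset.mem_insert,
            Finset.mem_biUnion]
          constructor
          · rintro ⟨z, hz⟩
            by_cases hg : g = 1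
            · exact Or.inl hg
            · exact Or.inr ⟨z, hz, hg⟩
          · rintro (rfl | ⟨z, hz, -⟩)
            · exact ⟨a, one_smul _ _⟩
            · exact ⟨z, hz⟩
        rw [hsplit, Finset.card_insert_of_notMem (by simp), Finset.card_biUnion]
        · have hst' : ∀ z : Ω, (Finset.univ.filter fun g : G => g • z = z ∧ g ≠ 1).card = p ^ 2 - 1 := by
            intro z
            obtain ⟨w, hw⟩ := exists_ne z
            have h1 : Nat.card (stabilizer G z) = p ^ 2 := by
              rw [S.card_stab hw, ← S.card_St hab hw.symm, ← he, he1, mul_one]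
            have h2 : (Finset.univ.filter fun g : G => g • z = z ∧ g ≠ 1) =
                (Finset.univ.filter fun g : G => g • z = z).erase 1 := by
              ext g; simp [and_comm]
            rw [h2, Finset.card_erase_of_mem (by simp), ← h1, Nat.card_eq_fintype_card,
              Fintype.card_subtype]
            rfl
          rw [Finset.sum_congr rfl fun z _ => hst' z, Finset.sum_const, Finset.card_univ, hn, smul_eq_mul]
          ring
        · intro u _ v _ huv
          rw [Function.onFun, Finset.disjoint_left]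
          intro g hg hg'
          simp only [Finset.mem_filter, Finset.mem_univ, true_and] at hg hg'
          exact hg.2 (hbot u v huv g hg.1 hg'.1)
      have hA : A.card = p ^ 2 := by
        have h1 := Finset.card_filter_add_card_filter_not (s := (Finset.univ : Finset G))
          (fun g : G => ∃ z : Ω, g • z = z)
        rw [Finset.card_univ, ← Nat.card_eq_fintype_card, hcardG] at h1
        have h2 : (Finset.univ.filter fun g : G => ¬ ∃ z : Ω, g • z = z) = A := by
          ext g; simp [A]
        rw [h2] at h1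
        change B.card + A.card = _ at h1
        rw [hB] at h1
        have h4 : (p ^ 2 + 1) * (p ^ 2 - 1) + (p ^ 2 + 1) = (p ^ 2 + 1) * p ^ 2 := by
          rw [← Nat.mul_succ]; congr 1; omega
        omega
      have hIA : I = A := Finset.eq_of_subset_of_card_le (Finset.filter_subset _ _) (by rw [hA, hI2])
      intro g hg
      have : g ∈ I := by rw [hIA]; exact Finset.mem_filter.2 ⟨Finset.mem_univ _, hg⟩
      exact (Finset.mem_filter.1 this).2
    have htt := hinv a c hca.symm t ht1 ht2
    have hst2 := hinvol _ hstfree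
    -- a four group acting semiregularly
    have hcomm : s * t = t * s := by
      rw [← inv_eq_of_mul_eq_one_right hst2, mul_inv_rev, inv_eq_of_mul_eq_one_right hss,
        inv_eq_of_mul_eq_one_right htt]
    let V : Subgroup G := Subgroup.closure {s, t}
    have hVsub : ∀ g ∈ V, g = 1 ∨ g = s ∨ g = t ∨ g = s * t := by
      intro g hg
      induction hg using Subgroup.closure_induction with
      | mem x hx => rcases hx with rfl | rfl <;> simp
      | one => simp
      | mul x y _ _ hx hy =>
        have h1 : t * (s * t) = s := by rw [hcomm, ← mul_assoc, htt, one_mul]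
        have h2 : s * (s * t) = t := by rw [← mul_assoc, hss, one_mul]
        have h3' : s * t * s = t := by rw [hcomm, mul_assoc, hss, mul_one]
        have h4 : s * t * t = s := by rw [mul_assoc, htt, mul_one]
        rcases hx with rfl | rfl | rfl | rfl <;> rcases hy with rfl | rfl | rfl | rfl <;>
          simp [hss, htt, hst2, ← hcomm, h1, h2, h3', h4]
      | inv x _ hx =>
        rcases hx with rfl | rfl | rfl | rfl
        · simp
        · exact Or.inr (Or.inl (inv_eq_of_mul_eq_one_right hss))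
        · exact Or.inr (Or.inr (Or.inl (inv_eq_of_mul_eq_one_right htt)))
        · exact Or.inr (Or.inr (Or.inr (inv_eq_of_mul_eq_one_right hst2)))
    have hVfree : ∀ g ∈ V, g ≠ 1 → ∀ z : Ω, g • z ≠ z := by
      intro g hg hg1
      rcases hVsub g hg with rfl | rfl | rfl | rfl
      · exact absurd rfl hg1
      · exact hfree a b hab _ hs1 hs2
      · exact hfree a c hca.symm _ ht1 ht2
      · exact hstfree
    letI := Fintype.ofFinite V
    have hstab : ∀ z : Ω, stabilizer V z = ⊥ := fun z => (Subgroup.eq_bot_iff_forall _).2 fun g hg => by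
      by_contra h
      exact hVfree g g.2 (fun e' => h (Subtype.ext e')) z hg
    have horb : ∀ z : Ω, Nat.card (orbit V z) = Nat.card V := fun z => by
      rw [Nat.card_coe_set_eq, ← MulAction.index_stabilizer, hstab, Subgroup.index_bot]
    have hsV : s ∈ V := Subgroup.subset_closure (by simp)
    have htV : t ∈ V := Subgroup.subset_closure (by simp)
    have hV4 : Nat.card V = 4 := by
      let f : Fin 4 → V := ![1, ⟨s, hsV⟩, ⟨t, htV⟩, ⟨s * t, V.mul_mem hsV htV⟩]
      have hne : s ≠ t := fun h => hcb (by rw [← ht1, ← h, hs1])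
      have hs1' : s ≠ 1 := fun h => hfree a b hab s hs1 hs2 a (by rw [h, one_smul])
      have ht1' : t ≠ 1 := fun h => hfree a c hca.symm t ht1 ht2 a (by rw [h, one_smul])
      have hbij : Function.Bijective f := by
        refine ⟨fun i j h => ?_, fun v => ?_⟩
        · have h' := congrArg Subtype.val h
          clear h
          fin_cases i <;> fin_cases j <;>
            first
              | rfl
              | (simp only [f] at h'
                 simp [hne, hne.symm, hs1', hs1'.symm, ht1', ht1'.symm, hst, Ne.symm hst,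
                   mul_eq_left, mul_eq_right, left_eq_mul, right_eq_mul] at h')
        · rcases hVsub v v.2 with h | h | h | h
          · exact ⟨0, Subtype.ext h.symm⟩
          · exact ⟨1, Subtype.ext h.symm⟩
          · exact ⟨2, Subtype.ext h.symm⟩
          · exact ⟨3, Subtype.ext h.symm⟩
      rw [← Nat.card_eq_of_bijective f hbij, Nat.card_fin]
    have h4 : 4 ∣ Fintype.card Ω := by
      rw [Fintype.card_congr (MulAction.selfEquivSigmaOrbits V Ω), Fintype.card_sigma]
      refine Finset.dvd_sum fun q _ => ?_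
      rw [← Nat.card_eq_fintype_card, horb, hV4]
    omega
  -- Zassenhaus group
  have hfix : ∃ g : G, g ≠ 1 ∧ ∃ x y : Ω, x ≠ y ∧ g • x = x ∧ g • y = y := by
    have : St G a b ≠ ⊥ := fun h => he1 (by rw [he, h, Subgroup.card_bot])
    obtain ⟨g, hg, hg1⟩ := (Subgroup.ne_bot_iff_exists_ne_one).1 this |>.elim fun g hg =>
      (⟨g.1, g.2, fun h => hg (Subtype.ext h)⟩ : ∃ g : G, g ∈ St G a b ∧ g ≠ 1)
    exact ⟨g, hg1, a, b, hab, mem_St.1 hg⟩
  have hZ : Cfsg.IsZassenhausGroup G Ω := by
    refine ⟨inferInstance, S.h2, h3, hfix, fun N hN hNt => ?_⟩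
    by_contra hcon
    push Not at hcon
    haveI := hN
    haveI := hNt
    obtain ⟨-, r, hr, hrN, -⟩ := Lie.Zassenhaus.regular_normal_elementary S.h2 N hcon
    haveI : Fact r.Prime := ⟨hr⟩
    obtain ⟨k, hk⟩ := IsPGroup.iff_card.1 hrN
    have h1 := (stabilizer N a).index_mul_card
    rw [hcon a, Subgroup.card_bot, mul_one, ← hcon a, MulAction.index_stabilizer_of_transitive, S.hΩ, hk] at h1
    have h2' : 2 ∣ r ^ k := ⟨(p ^ 2 + 1) / 2, by rw [← h1]; omega⟩
    have hr2 : r = 2 := ((Nat.prime_dvd_prime_iff_eq Nat.prime_two hr).1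
      (Nat.prime_two.dvd_of_dvd_pow h2')).symm
    subst hr2
    rcases k with _ | _ | k
    · omega
    · have : 3 * 3 ≤ p * p := Nat.mul_le_mul hp3 hp3
      rw [sq] at h1
      omega
    · rw [show (2 : ℕ) ^ (k + 1 + 1) = 4 * 2 ^ k by ring] at h1
      omega
  rcases Nat.even_or_odd e with heven | hodd
  · obtain ⟨F, iF, iFin, -, hqΩ, ⟨iso⟩⟩ := Lie.ZassenhausHalf.psl_of_half hZ hab heven (by
      rw [hn]; show 2 * e ≤ _; omega)
    letI := iF
    letI := iFin
    have hq : Fintype.card F = p ^ 2 := by omega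
    haveI : IsPretransitive G Ω := ⟨fun u v => by
      rcases eq_or_ne u v with rfl | huv
      · exact ⟨1, one_smul _ _⟩
      · exact (S.apply2 huv huv.symm).imp fun g h => h.1⟩
    have hcardG : Nat.card G = (p ^ 2 + 1) * (p ^ 2 * e) := by
      rw [← (stabilizer G a).index_mul_card, MulAction.index_stabilizer_of_transitive, S.hΩ,
        S.card_stab hb]
    have h1 := Classical.Dickson.card_psl F
    rw [← Nat.card_congr iso.toEquiv, hcardG, hq] at h1
    have hgcd : Nat.gcd 2 (p ^ 2 - 1) = 2 := Nat.gcd_eq_left (by omega)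
    rw [hgcd] at h1
    have h2' : (p ^ 2) ^ 2 - 1 = (p ^ 2 + 1) * (p ^ 2 - 1) := by
      have := Nat.sq_sub_sq (p ^ 2) 1
      simpa using this
    rw [h2', show (p ^ 2 + 1) * (p ^ 2 * e) * 2 = p ^ 2 * ((p ^ 2 + 1) * (2 * e)) by ring] at h1
    have := Nat.eq_of_mul_eq_mul_left (Nat.succ_pos (p ^ 2))
      (Nat.eq_of_mul_eq_mul_left (pow_pos S.hp.pos 2) h1)
    omega
  · obtain ⟨P, hPle, hPcard, hPmem⟩ := S.exists_P hFB hFT hb
    have hPfix : ∀ u ∈ P, u ≠ 1 → ∀ c : Ω, u • c = c → c = a := by
      intro u hu hu1 c hc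
      by_contra hca
      refine hu1 (orderOf_eq_one_iff.1 (Nat.eq_one_of_dvd_coprimes ?_
        (orderOf_dvd_of_pow_eq_one (?_ : u ^ (p ^ 2) = 1))
        (Subgroup.orderOf_dvd_natCard _ (mem_St.2 ⟨hPle hu, hc⟩) : _ ∣ Nat.card (St G a c))))
      · exact ((S.hp.coprime_iff_not_dvd).2 (S.not_dvd_St hFB hca)).pow_left 2
      · have h1 := pow_card_eq_one' (G := P) (x := ⟨u, hu⟩)
        rw [hPcard] at h1
        exact congrArg Subtype.val h1
    rcases Lie.Feit.feit_inequality hZ hab (h := p ^ 2) hn he.symm hodd hPle (by rw [hPcard, hn]) hPfix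
      with h | ⟨h, -, -⟩
    · omega
    · haveI : Fact (Nat.Prime 2) := ⟨Nat.prime_two⟩
      obtain ⟨k, hk⟩ := IsPGroup.iff_card.1 h
      rw [hPcard] at hk
      rcases k with _ | k
      · simp at hk; omega
      · rw [show (2 : ℕ) ^ (k + 1) = 2 * 2 ^ k by ring] at hk
        omega

/-- Degree five with an imprimitive point stabiliser: the group has order 20. -/
theorem five [Finite G] [Fintype Ω] [FaithfulSMul G Ω] (h2 : IsMultiplyPretransitive G Ω 2)
    (hΩ : Fintype.card Ω = 5) (a : Ω) (B : Set (SubMulAction.ofStabilizer G a))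
    (hB : IsBlock (stabilizer G a) B) (hBc : B.ncard = 2) : Nat.card G = 20 := by
  classical
  haveI : IsPretransitive G Ω := ⟨fun u v => by
    obtain ⟨w, hw⟩ : ∃ w, w ≠ u := Fintype.exists_ne_of_one_lt_card (by rw [hΩ]; norm_num) u
    rcases eq_or_ne u v with rfl | huv
    · exact ⟨1, one_smul _ _⟩
    · exact (is_two_pretransitive_iff.1 h2 huv huv.symm).imp fun g h => h.1⟩
  obtain ⟨⟨b, hb⟩, ⟨c, hc⟩, hbc, rfl⟩ := Set.ncard_eq_two.1 hBc
  have hb' : b ≠ a := (SubMulAction.mem_ofStabilizer_iff G a).1 hb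
  have hc' : c ≠ a := (SubMulAction.mem_ofStabilizer_iff G a).1 hc
  have hbc' : b ≠ c := fun h => hbc (Subtype.ext h)
  have hfixc : ∀ g : G, g • a = a → g • b = b → g • c = c := by
    intro g ha hgb
    let g' : stabilizer G a := ⟨g, ha⟩
    have hmem : g' • (⟨b, hb⟩ : SubMulAction.ofStabilizer G a) = ⟨b, hb⟩ := Subtype.ext hgb
    rcases hB.smul_eq_or_disjoint g' with h | h
    · have : g' • (⟨c, hc⟩ : SubMulAction.ofStabilizer G a) ∈ ({⟨b, hb⟩, ⟨c, hc⟩} : Set _) := by
        rw [← h]
        exact Set.smul_mem_smul_set (Set.mem_insert_of_mem _ rfl)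
      rcases this with h1 | h1
      · exact absurd (MulAction.injective g' (h1.trans hmem.symm)) (Ne.symm hbc)
      · exact congrArg Subtype.val h1
    · have h5 := Set.smul_mem_smul_set (a := g')
        (Set.mem_insert (⟨b, hb⟩ : SubMulAction.ofStabilizer G a) {⟨c, hc⟩})
      rw [hmem] at h5
      exact absurd (Set.mem_insert _ _) (Set.disjoint_left.1 h h5)
  have hSt : ∀ g ∈ St G a b, g = 1 := by
    intro g hg
    obtain ⟨ha, hgb⟩ := mem_St.1 hg
    by_contra hg1
    let φ : G →* Equiv.Perm Ω := MulAction.toPermHom G Ω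
    have hinj : Function.Injective φ := MulAction.toPerm_injective
    have hswap : (φ g).IsSwap := by
      rw [← Equiv.Perm.card_support_eq_two]
      have h1 := Equiv.Perm.one_lt_card_support_of_ne_one (fun h => hg1 (hinj (h.trans φ.map_one.symm)))
      have h3 : (φ g).support ⊆ ({a, b, c} : Finset Ω)ᶜ := by
        intro z hz
        rw [Equiv.Perm.mem_support] at hz
        simp only [Finset.mem_compl, Finset.mem_insert, Finset.mem_singleton]
        rintro (rfl | rfl | rfl)
        · exact hz ha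
        · exact hz hgb
        · exact hz (hfixc g ha hgb)
      have h4 := Finset.card_le_card h3
      rw [Finset.card_compl, hΩ, Finset.card_eq_three.2 ⟨a, b, c, hb'.symm, hc'.symm, hbc', rfl⟩] at h4
      omega
    have htop : φ.range = ⊤ := by
      refine Equiv.Perm.subgroup_eq_top_of_swap_mem (by rw [hΩ]; norm_num) ?_ ⟨g, rfl⟩ hswap
      rw [hΩ, ← Nat.card_eq_fintype_card, Nat.card_congr (MonoidHom.ofInjective hinj).toEquiv.symm]
      have h1 := (stabilizer G a).index_mul_card
      rw [MulAction.index_stabilizer_of_transitive, Nat.card_eq_fintype_card, hΩ] at h1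
      exact h1 ▸ dvd_mul_right _ _
    obtain ⟨d, -, hd⟩ := Finset.exists_mem_notMem_of_card_lt_card
      (s := ({a, b, c} : Finset Ω)) (t := Finset.univ) (by
        rw [Finset.card_univ, hΩ]; exact Finset.card_le_three.trans_lt (by norm_num))
    simp only [Finset.mem_insert, Finset.mem_singleton, not_or] at hd
    obtain ⟨k, hk⟩ : Equiv.swap c d ∈ φ.range := htop ▸ Subgroup.mem_top _
    have hk' : ∀ z, k • z = Equiv.swap c d z := fun z => congrArg (fun f : Equiv.Perm Ω => f z) hk
    have := hfixc k (by rw [hk', Equiv.swap_apply_of_ne_of_ne hc'.symm (Ne.symm hd.1)])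
      (by rw [hk', Equiv.swap_apply_of_ne_of_ne hbc' (Ne.symm hd.2.1)])
    rw [hk', Equiv.swap_apply_left] at this
    exact hd.2.2 this
  have h1 := (stabilizer G a).index_mul_card
  rw [MulAction.index_stabilizer_of_transitive, Nat.card_eq_fintype_card, hΩ] at h1
  haveI : IsPretransitive (stabilizer G a) (SubMulAction.ofStabilizer G a) := ⟨fun u v => by
    obtain ⟨g, hg1, hg2⟩ := is_two_pretransitive_iff.1 h2
      (Ne.symm ((SubMulAction.mem_ofStabilizer_iff G a).1 u.2)) (Ne.symm ((SubMulAction.mem_ofStabilizer_iff G a).1 v.2))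
    exact ⟨⟨g, hg1⟩, Subtype.ext hg2⟩⟩
  have h3 := (stabilizer (stabilizer G a) (⟨b, hb⟩ : SubMulAction.ofStabilizer G a)).index_mul_card
  rw [MulAction.index_stabilizer_of_transitive] at h3
  have h4 : stabilizer (stabilizer G a) (⟨b, hb⟩ : SubMulAction.ofStabilizer G a) = ⊥ :=
    (Subgroup.eq_bot_iff_forall _).2 fun g hg =>
      Subtype.ext (hSt g (mem_St.2 ⟨g.2, congrArg Subtype.val hg⟩))
  have h5 : Nat.card (SubMulAction.ofStabilizer G a) = 4 := by
    rw [SubMulAction.nat_card_ofStabilizer_eq, Nat.card_eq_fintype_card, hΩ]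
  rw [h4, Subgroup.card_bot, h5, mul_one] at h3
  rw [← h3] at h1
  omega

/-- The main statement. -/
theorem doubly_primitive [Finite G] [Fintype Ω] [FaithfulSMul G Ω] (hp : p.Prime)
    (hΩ : Fintype.card Ω = p ^ 2 + 1) (h2 : IsMultiplyPretransitive G Ω 2) (a : Ω) :
    IsPreprimitive (stabilizer G a) (SubMulAction.ofStabilizer G a) ∨ (p = 2 ∧ Nat.card G = 20) := by
  classical
  refine Classical.or_iff_not_imp_left.2 fun hnp => ?_
  have htr : IsPretransitive (stabilizer G a) (SubMulAction.ofStabilizer G a) := ⟨fun u v => by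
    obtain ⟨g, hg1, hg2⟩ := is_two_pretransitive_iff.1 h2
      (Ne.symm ((SubMulAction.mem_ofStabilizer_iff G a).1 u.2)) (Ne.symm ((SubMulAction.mem_ofStabilizer_iff G a).1 v.2))
    exact ⟨⟨g, hg1⟩, Subtype.ext hg2⟩⟩
  obtain ⟨B, hB, hBs, hBu⟩ : ∃ B : Set (SubMulAction.ofStabilizer G a),
      IsBlock (stabilizer G a) B ∧ ¬ B.Subsingleton ∧ B ≠ Set.univ := by
    by_contra hcon
    push Not at hcon
    refine hnp { toIsPretransitive := htr, isTrivialBlock_of_isBlock := ?_ }
    intro B hB
    rcases B.subsingleton_or_nontrivial with h | h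
    · exact Or.inl h
    · exact Or.inr (hcon B hB h)
  haveI : Finite Ω := Finite.of_fintype Ω
  have hcard : Nat.card (SubMulAction.ofStabilizer G a) = p ^ 2 := by
    rw [SubMulAction.nat_card_ofStabilizer_eq, Nat.card_eq_fintype_card, hΩ, Nat.add_sub_cancel]
  rw [Set.not_subsingleton_iff] at hBs
  have hne : B.Nonempty := hBs.nonempty
  have hdvd := hB.ncard_dvd_card hne
  rw [hcard] at hdvd
  obtain ⟨k, hk2, hk⟩ := (Nat.dvd_prime_pow hp).1 hdvd
  have hBp : B.ncard = p := by
    interval_cases k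
    · exfalso
      have := (Set.one_lt_ncard).2 hBs
      rw [hk, pow_zero] at this
      omega
    · rw [hk, pow_one]
    · exact absurd (Set.eq_univ_iff_ncard B |>.2 (by rw [hk, hcard])) hBu
  rcases eq_or_ne p 2 with rfl | hodd
  · exact ⟨rfl, five h2 (by rw [hΩ]; rfl) a B hB hBp⟩
  exfalso
  let B' : Set Ω := Subtype.val '' B
  have hB'a : ∀ y ∈ B', y ≠ a := by
    rintro _ ⟨y, -, rfl⟩
    exact (SubMulAction.mem_ofStabilizer_iff G a).1 y.2
  have hblock : ∀ g : G, g • a = a → ∀ y ∈ B', g • y ∈ B' → ∀ z ∈ B', g • z ∈ B' := by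
    rintro g hg _ ⟨y, hy, rfl⟩ ⟨y', hy', he⟩ _ ⟨z, hz, rfl⟩
    rcases hB.smul_eq_or_disjoint (⟨g, hg⟩ : stabilizer G a) with h | h
    · refine ⟨(⟨g, hg⟩ : stabilizer G a) • z, ?_, rfl⟩
      exact h ▸ Set.smul_mem_smul_set hz
    · exact absurd (h.ne_of_mem (Set.smul_mem_smul_set hy) hy' (Subtype.ext he.symm)) id
  obtain ⟨⟨b₀, hb₀⟩, hb₀B⟩ := hne
  have S : Sys G Ω p :=
    { R := fun x y z => ∃ g : G, g • x = a ∧ g • y ∈ B' ∧ g • z ∈ B'
      hp := hp
      hodd := hodd
      hΩ := by rw [Nat.card_eq_fintype_card, hΩ]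
      h2 := h2
      inv := fun g x y z ⟨f, h1, h3, h4⟩ => ⟨f * g⁻¹, by rwa [mul_smul, inv_smul_smul],
        by rwa [mul_smul, inv_smul_smul], by rwa [mul_smul, inv_smul_smul]⟩
      ne_left := fun x y z ⟨f, h1, h3, _⟩ e => hB'a _ h3 (e ▸ h1)
      refl := fun x y hyx => by
        obtain ⟨g, h1, h3⟩ := is_two_pretransitive_iff.1 h2 hyx.symm
          (Ne.symm (hB'a b₀ ⟨⟨b₀, hb₀⟩, hb₀B, rfl⟩))
        exact ⟨g, h1, h3 ▸ ⟨_, hb₀B, rfl⟩, h3 ▸ ⟨_, hb₀B, rfl⟩⟩
      symm := fun x y z ⟨f, h1, h3, h4⟩ => ⟨f, h1, h4, h3⟩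
      trans := fun x y z w ⟨f, h1, h3, h4⟩ ⟨f', h1', h3', h4'⟩ => by
        refine ⟨f', h1', ?_, h4'⟩
        have h5 : (f' * f⁻¹) • (f • z) ∈ B' := by rwa [mul_smul, inv_smul_smul]
        have := hblock (f' * f⁻¹) (by rw [mul_smul, inv_smul_eq_iff.2 h1.symm, h1']) _ h4 h5 _ h3
        rwa [mul_smul, inv_smul_smul] at this
      hcard := fun x y hyx => by
        obtain ⟨g, h1, h3⟩ := is_two_pretransitive_iff.1 h2 hyx.symm
          (Ne.symm (hB'a b₀ ⟨⟨b₀, hb₀⟩, hb₀B, rfl⟩))
        rw [show {z | ∃ f : G, f • x = a ∧ f • y ∈ B' ∧ f • z ∈ B'} = (g⁻¹ • ·) '' B' from ?_,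
          Set.ncard_image_of_injective _ (MulAction.injective g⁻¹),
          Set.ncard_image_of_injective _ Subtype.val_injective, hBp]
        ext z
        constructor
        · rintro ⟨f, h1', h3', h4'⟩
          refine ⟨g • z, ?_, inv_smul_smul _ _⟩
          have h5 : (g * f⁻¹) • (f • y) ∈ B' := by
            rw [mul_smul, inv_smul_smul, h3]; exact ⟨_, hb₀B, rfl⟩
          have := hblock (g * f⁻¹) (by rw [mul_smul, inv_smul_eq_iff.2 h1'.symm, h1]) _ h3' h5 _ h4'
          rwa [mul_smul, inv_smul_smul] at this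
        · rintro ⟨w, hw, rfl⟩
          exact ⟨g, h1, h3 ▸ ⟨_, hb₀B, rfl⟩, by rw [smul_inv_smul]; exact hw⟩ }
  exact S.no_sys

end Cfsg.Agent.Solv.PSq
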