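import Cfsg.Agent.Lib.Solv.PSq.PrimeDeg

/-!
Doubly transitive groups of degree `p ^ 2 + 1` with an imprimitive point stabiliser: block systems,
counting lemmas.
-/

set_option autoImplicit false

namespace Cfsg.Agent.Solv.PSq

open MulAction

/-- Invariant block systems of size `p` on the complement of each point. -/
structure Sys (G Ω : Type*) [Group G] [MulAction G Ω] (p : ℕ) where
  R : Ω → Ω → Ω → Prop
  hp : p.Prime
  hodd : p ≠ 2
  hΩ : Nat.card Ω = p ^ 2 + 1
  h2 : IsMultiplyPretransitive G Ω 2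
  inv : ∀ (g : G) (x y z : Ω), R x y z → R (g • x) (g • y) (g • z)
  ne_left : ∀ x y z : Ω, R x y z → y ≠ x
  refl : ∀ x y : Ω, y ≠ x → R x y y
  symm : ∀ x y z : Ω, R x y z → R x z y
  trans : ∀ x y z w : Ω, R x y z → R x z w → R x y w
  hcard : ∀ x y : Ω, y ≠ x → {z | R x y z}.ncard = p

variable {G Ω : Type*} [Group G] [MulAction G Ω] {p : ℕ}

/-- Two point stabiliser. -/
abbrev St (G : Type*) {Ω : Type*} [Group G] [MulAction G Ω] (a b : Ω) : Subgroup G :=
  stabilizer G a ⊓ stabilizer G b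

theorem mem_St {a b : Ω} {g : G} : g ∈ St G a b ↔ g • a = a ∧ g • b = b := Iff.rfl

theorem St_symm (a b : Ω) : St G a b = St G b a := inf_comm _ _

namespace Sys

variable (S : Sys G Ω p)

include S

theorem ne_right {x y z : Ω} (h : S.R x y z) : z ≠ x := S.ne_left x z y (S.symm x y z h)

theorem inv_iff (g : G) (x y z : Ω) : S.R (g • x) (g • y) (g • z) ↔ S.R x y z :=
  ⟨fun h => by simpa using S.inv g⁻¹ _ _ _ h, S.inv g x y z⟩

theorem inv_fix {g : G} {a : Ω} (hg : g • a = a) {y z : Ω} (h : S.R a y z) :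
    S.R a (g • y) (g • z) := by
  have := S.inv g a y z h
  rwa [hg] at this

theorem finite : Finite Ω := (Nat.card_pos_iff.1 (by rw [S.hΩ]; positivity)).2

theorem three_le : 3 ≤ p := by
  have := S.hp.two_le
  have := S.hodd
  omega

theorem apply2 {a b c d : Ω} (hab : a ≠ b) (hcd : c ≠ d) : ∃ g : G, g • a = c ∧ g • b = d :=
  is_two_pretransitive_iff.1 S.h2 hab hcd

theorem move {a y z : Ω} (hy : y ≠ a) (hz : z ≠ a) : ∃ g : G, g • a = a ∧ g • y = z :=
  S.apply2 hy.symm hz.symm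

/-- The other points of a block. -/
def D1 (a b : Ω) : Set Ω := {z | S.R a b z} \ {b}

theorem mem_D1 {a b z : Ω} : z ∈ S.D1 a b ↔ S.R a b z ∧ z ≠ b := Iff.rfl

theorem ncard_D1 {a b : Ω} (hb : b ≠ a) : (S.D1 a b).ncard = p - 1 := by
  haveI := S.finite
  have h : b ∈ {z | S.R a b z} := S.refl a b hb
  rw [D1, Set.ncard_sdiff_singleton_of_mem h, S.hcard a b hb]

theorem exists_other {a b : Ω} (hb : b ≠ a) : ∃ z, S.R a b z ∧ z ≠ b := by
  haveI := S.finite
  have h := S.ncard_D1 hb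
  obtain ⟨z, hz⟩ := Set.nonempty_of_ncard_ne_zero (by rw [h]; have := S.three_le; omega : (S.D1 a b).ncard ≠ 0)
  exact ⟨z, hz⟩

theorem exists_third {a b c : Ω} (hc : S.R a b c) (hne : c ≠ b) :
    ∃ z, S.R a b z ∧ z ≠ b ∧ z ≠ c := by
  haveI := S.finite
  have h := S.ncard_D1 (S.ne_left a b c hc)
  have hmem : c ∈ S.D1 a b := ⟨hc, hne⟩
  have h2 := Set.ncard_sdiff_singleton_of_mem hmem
  obtain ⟨z, ⟨hz1, hz2⟩, hz3⟩ := Set.nonempty_of_ncard_ne_zero
    (by rw [h2, h]; have := S.three_le; omega : (S.D1 a b \ {c}).ncard ≠ 0)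
  exact ⟨z, hz1, hz2, hz3⟩

/-- The block setoid of an apex. -/
def setoid (a : Ω) : Setoid {y : Ω // y ≠ a} where
  r y z := S.R a y z
  iseqv := ⟨fun y => S.refl a y y.2, fun h => S.symm a _ _ h, fun h h' => S.trans a _ _ _ h h'⟩

/-- The blocks of an apex. -/
abbrev Blk (a : Ω) := Quotient (S.setoid a)

/-- The block of a point. -/
def blk {a : Ω} (y : Ω) (hy : y ≠ a) : S.Blk a := Quotient.mk (S.setoid a) ⟨y, hy⟩

theorem blk_eq {a y z : Ω} (hy : y ≠ a) (hz : z ≠ a) : S.blk y hy = S.blk z hz ↔ S.R a y z :=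
  Quotient.eq (r := S.setoid a)

theorem blk_surj {a : Ω} (q : S.Blk a) : ∃ (y : Ω) (hy : y ≠ a), S.blk y hy = q := by
  obtain ⟨⟨y, hy⟩, rfl⟩ := Quotient.exists_rep (s := S.setoid a) q
  exact ⟨y, hy, rfl⟩

instance blkAction (a : Ω) : MulAction (stabilizer G a) (S.Blk a) where
  smul g := Quotient.map (fun y => ⟨(g : G) • (y : Ω), fun h => y.2
      (MulAction.injective (g : G) (h.trans g.2.symm))⟩) fun y z h => S.inv_fix g.2 h
  one_smul := fun q => Quotient.inductionOn q fun y =>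
    congrArg (Quotient.mk _) (Subtype.ext (one_smul G (y : Ω)))
  mul_smul := fun g h q => Quotient.inductionOn q fun y =>
    congrArg (Quotient.mk _) (Subtype.ext (mul_smul (g : G) (h : G) (y : Ω)))

theorem smul_blk {a : Ω} (g : stabilizer G a) {y : Ω} (hy : y ≠ a) :
    ∃ h : (g : G) • y ≠ a, g • S.blk y hy = S.blk ((g : G) • y) h :=
  ⟨fun h => hy (MulAction.injective (g : G) (h.trans g.2.symm)), rfl⟩

theorem smul_blk_eq {a : Ω} (g : stabilizer G a) {y z : Ω} (hy : y ≠ a) (hz : z ≠ a) :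
    g • S.blk y hy = S.blk z hz ↔ S.R a ((g : G) • y) z := by
  obtain ⟨h, e⟩ := S.smul_blk g hy
  rw [e, S.blk_eq]

instance blk_pretrans (a : Ω) : IsPretransitive (stabilizer G a) (S.Blk a) := ⟨fun u v => by
  obtain ⟨y, hy, rfl⟩ := S.blk_surj u
  obtain ⟨z, hz, rfl⟩ := S.blk_surj v
  obtain ⟨g, h1, h2⟩ := S.move hy hz
  refine ⟨⟨g, h1⟩, (S.smul_blk_eq _ hy hz).2 ?_⟩
  show S.R a (g • y) z
  rw [h2]
  exact S.refl a z hz⟩

theorem ncard_ne (a : Ω) : Nat.card {y : Ω // y ≠ a} = p ^ 2 := by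
  haveI := S.finite
  classical
  letI := Fintype.ofFinite Ω
  have h := S.hΩ
  rw [Nat.card_eq_fintype_card] at h
  rw [Nat.card_eq_fintype_card, Fintype.card_subtype_compl, Fintype.card_subtype_eq, h]
  rfl

theorem finite_blk (a : Ω) : Finite (S.Blk a) :=
  haveI := S.finite
  Quotient.finite (S.setoid a)

theorem card_blk (a : Ω) : Nat.card (S.Blk a) = p := by
  haveI := S.finite
  haveI := S.finite_blk a
  letI : Fintype (Quotient (S.setoid a)) := Fintype.ofFinite _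
  have h : ∀ q : S.Blk a, Nat.card {y : {y : Ω // y ≠ a} // Quotient.mk (S.setoid a) y = q} = p := by
    intro q
    obtain ⟨z, hz, rfl⟩ := S.blk_surj q
    refine Eq.trans ?_ (S.hcard a z hz)
    rw [← Nat.card_coe_set_eq]
    exact Nat.card_congr
      { toFun := fun y => ⟨y.1.1, S.symm a _ _ ((S.blk_eq y.1.2 hz).1 y.2)⟩
        invFun := fun w => ⟨⟨w.1, S.ne_right w.2⟩,
          (S.blk_eq (S.ne_right w.2) hz).2 (S.symm a _ _ w.2)⟩
        left_inv := fun y => rfl
        right_inv := fun w => rfl }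
  have h1 := Nat.card_congr (Equiv.sigmaFiberEquiv (fun y : {y : Ω // y ≠ a} =>
    (Quotient.mk (S.setoid a) y : S.Blk a)))
  rw [Nat.card_sigma, S.ncard_ne a] at h1
  have h3 : ∑ q : S.Blk a, Nat.card {y : {y : Ω // y ≠ a} // Quotient.mk (S.setoid a) y = q}
      = Fintype.card (S.Blk a) * p := by
    rw [Finset.sum_congr rfl fun q _ => h q, Finset.sum_const, Finset.card_univ, smul_eq_mul]
  rw [h3, sq] at h1
  rw [Nat.card_eq_fintype_card]
  exact Nat.eq_of_mul_eq_mul_right S.hp.pos h1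

theorem exists_off {a y : Ω} (hy : y ≠ a) : ∃ z, z ≠ a ∧ ¬ S.R a y z := by
  haveI := S.finite_blk a
  haveI : Nontrivial (S.Blk a) :=
    Finite.one_lt_card_iff_nontrivial.1 (by rw [S.card_blk]; exact S.hp.one_lt)
  obtain ⟨q, hq⟩ := exists_ne (S.blk y hy)
  obtain ⟨z, hz, rfl⟩ := S.blk_surj q
  exact ⟨z, hz, fun h => hq ((S.blk_eq hy hz).2 h).symm⟩

/-- The kernel of the action on blocks. -/
def K (a : Ω) : Subgroup G where
  carrier := {g | g • a = a ∧ ∀ y, y ≠ a → S.R a y (g • y)}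
  one_mem' := ⟨one_smul G a, fun y hy => by rw [one_smul]; exact S.refl a y hy⟩
  mul_mem' := fun {g h} hg hh => ⟨by rw [mul_smul, hh.1, hg.1], fun y hy => by
    rw [mul_smul]
    exact S.trans a _ _ _ (hh.2 y hy) (hg.2 _ (S.ne_right (hh.2 y hy)))⟩
  inv_mem' := fun {g} hg => ⟨inv_smul_eq_iff.2 hg.1.symm, fun y hy => by
    have hne : g⁻¹ • y ≠ a := fun h => hy (by rw [← hg.1, ← inv_smul_eq_iff, h])
    have := hg.2 _ hne
    rw [smul_inv_smul] at this
    exact S.symm a _ _ this⟩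

theorem mem_K {a : Ω} {g : G} : g ∈ S.K a ↔ g • a = a ∧ ∀ y, y ≠ a → S.R a y (g • y) := Iff.rfl

theorem conj_K {a : Ω} {g k : G} (hg : g • a = a) (hk : k ∈ S.K a) : g * k * g⁻¹ ∈ S.K a := by
  refine ⟨by rw [mul_smul, mul_smul, inv_smul_eq_iff.2 hg.symm, hk.1, hg], fun y hy => ?_⟩
  have hne : g⁻¹ • y ≠ a := fun h => hy (by rw [← hg, ← inv_smul_eq_iff, h])
  have := S.inv_fix hg (hk.2 _ hne)
  rw [smul_inv_smul] at this
  rwa [mul_smul, mul_smul]

theorem toPerm_eq_one_iff {a : Ω} (g : stabilizer G a) :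
    MulAction.toPermHom (stabilizer G a) (S.Blk a) g = 1 ↔ (g : G) ∈ S.K a := by
  constructor
  · intro h
    refine ⟨g.2, fun y hy => ?_⟩
    have := congrArg (fun f : Equiv.Perm (S.Blk a) => f (S.blk y hy)) h
    exact S.symm a _ _ ((S.smul_blk_eq g hy hy).1 this)
  · intro h
    refine Equiv.ext fun q => ?_
    obtain ⟨y, hy, rfl⟩ := S.blk_surj q
    exact (S.smul_blk_eq g hy hy).2 (S.symm a _ _ (h.2 y hy))

theorem card_stab [Finite G] {a b : Ω} (hb : b ≠ a) :
    Nat.card (stabilizer G a) = p ^ 2 * Nat.card (St G a b) := by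
  haveI := S.finite
  classical
  letI : MulAction (stabilizer G a) {y : Ω // y ≠ a} :=
    { smul := fun g y => ⟨(g : G) • (y : Ω), fun h => y.2 (MulAction.injective (g : G) (h.trans g.2.symm))⟩
      one_smul := fun y => Subtype.ext (one_smul G (y : Ω))
      mul_smul := fun g h y => Subtype.ext (mul_smul (g : G) (h : G) (y : Ω)) }
  haveI : IsPretransitive (stabilizer G a) {y : Ω // y ≠ a} := ⟨fun u v => by
    obtain ⟨g, h1, h2⟩ := S.move u.2 v.2
    exact ⟨⟨g, h1⟩, Subtype.ext h2⟩⟩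
  have h := (stabilizer (stabilizer G a) (⟨b, hb⟩ : {y : Ω // y ≠ a})).index_mul_card
  rw [MulAction.index_stabilizer_of_transitive, S.ncard_ne] at h
  rw [← h]
  congr 1
  exact Nat.card_congr
    { toFun := fun g => ⟨(g.1 : G), g.1.2, congrArg Subtype.val g.2⟩
      invFun := fun g => ⟨⟨g.1, g.2.1⟩, Subtype.ext g.2.2⟩
      left_inv := fun g => rfl
      right_inv := fun g => rfl }

theorem card_St [Finite G] {a b c d : Ω} (hab : a ≠ b) (hcd : c ≠ d) :
    Nat.card (St G a b) = Nat.card (St G c d) := by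
  obtain ⟨g, h1, h2⟩ := S.apply2 hab hcd
  refine Nat.card_congr
    { toFun := fun x => ⟨g * x * g⁻¹, ?_, ?_⟩
      invFun := fun x => ⟨g⁻¹ * x * g, ?_, ?_⟩
      left_inv := fun x => Subtype.ext (by simp [mul_assoc])
      right_inv := fun x => Subtype.ext (by simp [mul_assoc]) }
  · show (g * (x : G) * g⁻¹) • c = c
    rw [mul_smul, mul_smul, inv_smul_eq_iff.2 h1.symm, x.2.1, h1]
  · show (g * (x : G) * g⁻¹) • d = d
    rw [mul_smul, mul_smul, inv_smul_eq_iff.2 h2.symm, x.2.2, h2]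
  · show (g⁻¹ * (x : G) * g) • a = a
    rw [mul_smul, mul_smul, h1, x.2.1, inv_smul_eq_iff, h1]
  · show (g⁻¹ * (x : G) * g) • b = b
    rw [mul_smul, mul_smul, h2, x.2.2, inv_smul_eq_iff, h2]

theorem ext_fix [FaithfulSMul G Ω] {g : G} {a : Ω} (ha : g • a = a)
    (h : ∀ z, z ≠ a → g • z = z) : g = 1 := by
  refine eq_of_smul_eq_smul (α := Ω) fun z => ?_
  rw [one_smul]
  rcases eq_or_ne z a with rfl | hz
  · exact ha
  · exact h z hz

theorem K_ne_bot [Finite G] [FaithfulSMul G Ω] {a b : Ω} (hb : b ≠ a) : S.K a ≠ ⊥ := by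
  intro hK
  haveI := S.finite_blk a
  have hinj : Function.Injective (MulAction.toPermHom (stabilizer G a) (S.Blk a)) :=
    (injective_iff_map_eq_one _).2 fun g hg => by
      have := (S.toPerm_eq_one_iff g).1 hg
      rw [hK, Subgroup.mem_bot] at this
      exact Subtype.ext this
  have h := Subgroup.card_dvd_of_injective _ hinj
  rw [Nat.card_perm, S.card_blk, S.card_stab hb] at h
  have h1 : p * p ∣ p * (p - 1).factorial := by
    rw [← sq, Nat.mul_factorial_pred S.hp.ne_zero]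
    exact (dvd_mul_right _ _).trans h
  have h2 := (Nat.Prime.dvd_factorial S.hp).1 (Nat.dvd_of_mul_dvd_mul_left S.hp.pos h1)
  have := S.hp.pos
  omega

/-- Setwise stabiliser of a block. -/
def M (a b : Ω) (hb : b ≠ a) : Subgroup G where
  carrier := {g | g • a = a ∧ S.R a b (g • b)}
  one_mem' := ⟨one_smul G a, by rw [one_smul]; exact S.refl a b hb⟩
  mul_mem' := fun {g h} hg hh => ⟨by rw [mul_smul, hh.1, hg.1], by
    rw [mul_smul]
    exact S.trans a _ _ _ hg.2 (S.inv_fix hg.1 hh.2)⟩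
  inv_mem' := fun {g} hg => ⟨inv_smul_eq_iff.2 hg.1.symm, by
    have := S.inv_fix (inv_smul_eq_iff.2 hg.1.symm) hg.2
    rw [inv_smul_smul] at this
    exact S.symm a _ _ this⟩

/-- A block as a type. -/
abbrev Cls (a b : Ω) (_hb : b ≠ a) := {z : Ω // S.R a b z}

theorem mem_class {a b : Ω} (hb : b ≠ a) (g : S.M a b hb) {z : Ω} (hz : S.R a b z) :
    S.R a b ((g : G) • z) :=
  S.trans a _ _ _ g.2.2 (S.inv_fix g.2.1 hz)

instance clsAction (a b : Ω) (hb : b ≠ a) : MulAction (S.M a b hb) (S.Cls a b hb) where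
  smul g z := ⟨(g : G) • z.1, S.mem_class hb g z.2⟩
  one_smul := fun z => Subtype.ext (one_smul G z.1)
  mul_smul := fun g h z => Subtype.ext (mul_smul (g : G) (h : G) z.1)

theorem finite_cls (a b : Ω) (hb : b ≠ a) : Finite (S.Cls a b hb) :=
  haveI := S.finite
  Subtype.finite

theorem card_cls (a b : Ω) (hb : b ≠ a) : Nat.card (S.Cls a b hb) = p := by
  refine Eq.trans ?_ (S.hcard a b hb)
  rw [← Nat.card_coe_set_eq]
  rfl

instance cls_pretrans (a b : Ω) (hb : b ≠ a) : IsPretransitive (S.M a b hb) (S.Cls a b hb) :=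
  ⟨fun u v => by
    obtain ⟨g, h1, h2⟩ := S.move (S.ne_right u.2) (S.ne_right v.2)
    have h3 := S.inv_fix h1 u.2
    rw [h2] at h3
    exact ⟨⟨g, h1, S.trans a _ _ _ v.2 (S.symm a _ _ h3)⟩, Subtype.ext h2⟩⟩

theorem Ksub_normal (a b : Ω) (hb : b ≠ a) : ((S.K a).subgroupOf (S.M a b hb)).Normal :=
  ⟨fun _ hk g => S.conj_K g.2.1 hk⟩

theorem K_le_M {a b : Ω} (hb : b ≠ a) : S.K a ≤ S.M a b hb := fun _ hk => ⟨hk.1, hk.2 b hb⟩

theorem K_moves [Finite G] [FaithfulSMul G Ω] (a b : Ω) (hb : b ≠ a) :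
    ∃ n ∈ (S.K a).subgroupOf (S.M a b hb), ∃ z : S.Cls a b hb, n • z ≠ z := by
  by_contra hcon
  push Not at hcon
  refine S.K_ne_bot hb ((Subgroup.eq_bot_iff_forall _).2 fun k hk => S.ext_fix hk.1 fun z hz => ?_)
  obtain ⟨g, h1, h2⟩ := S.move hz hb
  have h3 := hcon ⟨g * k * g⁻¹, S.K_le_M hb (S.conj_K h1 hk)⟩ (S.conj_K h1 hk) ⟨b, S.refl a b hb⟩
  have h4 : (g * k * g⁻¹) • b = b := congrArg Subtype.val h3
  rw [mul_smul, mul_smul, inv_smul_eq_iff.2 h2.symm, smul_eq_iff_eq_inv_smul, inv_smul_eq_iff.2 h2.symm] at h4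
  exact h4

theorem K_trans [Finite G] [FaithfulSMul G Ω] {a y z : Ω} (h : S.R a y z) :
    ∃ k ∈ S.K a, k • y = z := by
  have hy := S.ne_left a y z h
  haveI := S.finite_cls a y hy
  haveI := S.Ksub_normal a y hy
  haveI := normal_transitive S.hp (S.card_cls a y hy) _ (S.K_moves a y hy)
  obtain ⟨k, hk⟩ := exists_smul_eq ((S.K a).subgroupOf (S.M a y hy))
    (⟨y, S.refl a y hy⟩ : S.Cls a y hy) (⟨z, h⟩ : S.Cls a y hy)
  exact ⟨((k : S.M a y hy) : G), k.2, congrArg Subtype.val hk⟩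

/-- Only the identity of a block fixes two points of it. -/
def FB : Prop := ∀ (a : Ω) (g : G) (y z : Ω), g • a = a → y ≠ z → S.R a y z → g • y = y →
  g • z = z → ∀ w, S.R a y w → g • w = w

/-- Only elements of the kernel fix two blocks. -/
def FT : Prop := ∀ (a : Ω) (g : G) (y z : Ω), g • a = a → z ≠ a → ¬ S.R a y z →
  S.R a y (g • y) → S.R a z (g • z) → g ∈ S.K a

theorem fb_of_twoFix {a b : Ω} (hb : b ≠ a) (h : TwoFix (S.M a b hb) (S.Cls a b hb)) : S.FB := by
  intro x g y z hgx hyz hR hgy hgz w hw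
  obtain ⟨f, h1, h2⟩ := S.apply2 (S.ne_left x y z hR).symm hb.symm
  have key : ∀ u : Ω, g • u = u → (f * g * f⁻¹) • (f • u) = f • u := fun u hu => by
    rw [mul_smul, inv_smul_smul, mul_smul, hu]
  have ha : (f * g * f⁻¹) • a = a := by
    have := key x hgx
    rwa [h1] at this
  have hbb : (f * g * f⁻¹) • b = b := by
    have := key y hgy
    rwa [h2] at this
  have hz := S.inv f _ _ _ hR
  have hw' := S.inv f _ _ _ hw
  rw [h1, h2] at hz hw'
  have h3 := h ⟨f * g * f⁻¹, ha, by rw [hbb]; exact S.refl a b hb⟩ ⟨b, S.refl a b hb⟩ ⟨f • z, hz⟩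
    (fun e => hyz (MulAction.injective f (h2.trans (congrArg Subtype.val e))))
    (Subtype.ext hbb) (Subtype.ext (key z hgz)) ⟨f • w, hw'⟩
  have h4 : (f * g * f⁻¹) • (f • w) = f • w := congrArg Subtype.val h3
  rw [mul_smul, inv_smul_smul, mul_smul] at h4
  exact MulAction.injective f h4

theorem twoFix_of_fb (hFB : S.FB) {a b : Ω} (hb : b ≠ a) : TwoFix (S.M a b hb) (S.Cls a b hb) :=
  fun g x y hxy hx hy z => Subtype.ext (hFB a g x.1 y.1 g.2.1 (fun e => hxy (Subtype.ext e))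
    (S.trans a _ _ _ (S.symm a _ _ x.2) y.2) (congrArg Subtype.val hx) (congrArg Subtype.val hy) z.1
    (S.trans a _ _ _ (S.symm a _ _ x.2) z.2))

theorem K_fix_trans [Finite G] [FaithfulSMul G Ω] (hFB : ¬ S.FB) {a y z w : Ω} (hz : S.R a y z)
    (hw : S.R a y w) (hzy : z ≠ y) (hwy : w ≠ y) : ∃ k ∈ S.K a, k • y = y ∧ k • z = w := by
  have hy := S.ne_left a y z hz
  haveI := S.finite_cls a y hy
  haveI := S.Ksub_normal a y hy
  haveI := normal_transitive S.hp (S.card_cls a y hy) _ (S.K_moves a y hy)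
  have hnot : ¬ TwoFix ((S.K a).subgroupOf (S.M a y hy)) (S.Cls a y hy) := fun hN =>
    hFB (S.fb_of_twoFix hy (twoFix_of_normal S.hp (S.card_cls a y hy) _ (S.K_moves a y hy) hN))
  obtain ⟨k, hk1, hk2⟩ := trans_of_not_twoFix S.hp (S.card_cls a y hy) hnot
    (a := (⟨y, S.refl a y hy⟩ : S.Cls a y hy)) (b := ⟨z, hz⟩) (c := ⟨y, S.refl a y hy⟩) (d := ⟨w, hw⟩)
    (fun e => hzy (congrArg Subtype.val e).symm) (fun e => hwy (congrArg Subtype.val e).symm)
  exact ⟨((k : S.M a y hy) : G), k.2, congrArg Subtype.val hk1, congrArg Subtype.val hk2⟩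

theorem ft_of_twoFix {a : Ω} (h : TwoFix (stabilizer G a) (S.Blk a)) : S.FT := by
  intro x g y z hgx hz hR hgy hgz
  have hy : y ≠ x := S.ne_left x _ _ hgy
  obtain ⟨b, hb⟩ : ∃ b, b ≠ a := by
    haveI := S.finite
    haveI : Nontrivial Ω := Finite.one_lt_card_iff_nontrivial.1 (by
      rw [S.hΩ]; have := S.hp.pos; nlinarith)
    exact exists_ne a
  obtain ⟨f, h1, -⟩ := S.apply2 hy.symm hb.symm
  have hf : ∀ u, u ≠ x → f • u ≠ a := fun u hu e => hu (MulAction.injective f (e.trans h1.symm))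
  have hfa : (f * g * f⁻¹) • a = a := by
    rw [mul_smul, mul_smul, inv_smul_eq_iff.2 h1.symm, hgx, h1]
  have key : ∀ u, ∀ hu : u ≠ x, S.R x u (g • u) →
      (⟨f * g * f⁻¹, hfa⟩ : stabilizer G a) • S.blk (f • u) (hf u hu) =
        S.blk (f • u) (hf u hu) := by
    intro u hu hgu
    rw [S.smul_blk_eq]
    show S.R a ((f * g * f⁻¹) • f • u) (f • u)
    rw [mul_smul, inv_smul_smul, mul_smul]
    have := S.inv f _ _ _ (S.symm x _ _ hgu)
    rwa [h1] at this
  refine ⟨hgx, fun u hu => ?_⟩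
  have h3 := h ⟨f * g * f⁻¹, hfa⟩ _ _ ?_ (key y hy hgy) (key z hz hgz) (S.blk (f • u) (hf u hu))
  · rw [S.smul_blk_eq] at h3
    have h4 : S.R a ((f * g * f⁻¹) • f • u) (f • u) := h3
    rw [mul_smul, inv_smul_smul, mul_smul, ← h1, S.inv_iff] at h4
    exact S.symm x _ _ h4
  · intro e
    rw [S.blk_eq, ← h1, S.inv_iff] at e
    exact hR e

theorem blk_trans [Finite G] [FaithfulSMul G Ω] (hFT : ¬ S.FT) {a y z w : Ω} (hy : y ≠ a)
    (hz : z ≠ a) (hw : w ≠ a) (hyz : ¬ S.R a y z) (hyw : ¬ S.R a y w) :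
    ∃ g : G, g • a = a ∧ g • y = y ∧ S.R a w (g • z) := by
  haveI := S.finite_blk a
  obtain ⟨g, h1, h2⟩ := trans_of_not_twoFix S.hp (S.card_blk a)
    (fun h => hFT (S.ft_of_twoFix h))
    (a := S.blk y hy) (b := S.blk z hz) (c := S.blk y hy) (d := S.blk w hw)
    (fun e => hyz ((S.blk_eq hy hz).1 e)) (fun e => hyw ((S.blk_eq hy hw).1 e))
  rw [S.smul_blk_eq] at h1 h2
  obtain ⟨k, hk, hk'⟩ := S.K_trans h1
  refine ⟨k * g, by rw [mul_smul, g.2, hk.1], by rw [mul_smul, hk'], ?_⟩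
  rw [mul_smul]
  exact S.trans a _ _ _ (S.symm a _ _ h2) (hk.2 _ (S.ne_left a _ _ h2))

theorem comm_mem_K (hFT : S.FT) {a b : Ω} (hb : b ≠ a) {g h : G} (hg : g ∈ St G a b)
    (hh : h ∈ St G a b) : g * h * g⁻¹ * h⁻¹ ∈ S.K a := by
  haveI := S.finite_blk a
  have h0 : TwoFix (stabilizer G a) (S.Blk a) := by
    intro u x y hxy hx hy q
    obtain ⟨x, hxa, rfl⟩ := S.blk_surj x
    obtain ⟨y, hya, rfl⟩ := S.blk_surj y
    obtain ⟨z, hza, rfl⟩ := S.blk_surj q
    rw [S.smul_blk_eq] at hx hy ⊢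
    exact S.symm a _ _ ((hFT a (u : G) x y u.2 hya (fun e => hxy ((S.blk_eq hxa hya).2 e))
      (S.symm a _ _ hx) (S.symm a _ _ hy)).2 z hza)
  let g' : stabilizer G a := ⟨g, hg.1⟩
  let h' : stabilizer G a := ⟨h, hh.1⟩
  refine (S.toPerm_eq_one_iff (g' * h' * g'⁻¹ * h'⁻¹)).1 (Equiv.ext fun q => ?_)
  refine comm_fix S.hp (S.card_blk a) h0 g' h' (S.blk b hb) ?_ ?_ q
  · rw [S.smul_blk_eq]
    show S.R a (g • b) b
    rw [hg.2]; exact S.refl a b hb
  · rw [S.smul_blk_eq]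
    show S.R a (h • b) b
    rw [hh.2]; exact S.refl a b hb

/-- There is no family of lines of size `p + 1` with one line through two points. -/
theorem line_false (L : Ω → Ω → Set Ω) (hsymm : ∀ a b, a ≠ b → L a b = L b a)
    (hn : ∀ a b, a ≠ b → (L a b).ncard = p + 1) (hmem : ∀ a b, a ≠ b → a ∈ L a b)
    (hcl : ∀ a b c, a ≠ b → c ∈ L a b → c ≠ a → L a c = L a b) : False := by
  classical
  haveI := S.finite
  letI := Fintype.ofFinite Ω
  let f : Ω × Ω → Finset Ω := fun z => (L z.1 z.2).toFinset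
  let P : Finset (Ω × Ω) := (Finset.univ : Finset Ω).offDiag
  have hfib : ∀ l ∈ P.image f, (P.filter fun z => f z = l).card = (p + 1) * p := by
    intro l hl
    obtain ⟨⟨a, b⟩, hab, rfl⟩ := Finset.mem_image.1 hl
    simp only [P, Finset.mem_offDiag, Finset.mem_univ, true_and] at hab
    have hset : (P.filter fun z => f z = f (a, b)) = (f (a, b)).offDiag := by
      ext ⟨u, v⟩
      simp only [P, Finset.mem_filter, Finset.mem_offDiag, Finset.mem_univ, true_and, f,
        Set.mem_toFinset, Set.toFinset_inj]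
      constructor
      · rintro ⟨huv, h⟩
        refine ⟨h ▸ hmem u v huv, ?_, huv⟩
        rw [← h, hsymm u v huv]
        exact hmem v u huv.symm
      · rintro ⟨hu, hv, huv⟩
        refine ⟨huv, ?_⟩
        rcases eq_or_ne u a with rfl | hua
        · exact hcl u b v hab hv huv.symm
        · have h1 : L u a = L a b := by rw [hsymm u a hua, hcl a b u hab hu hua]
          rw [← h1]
          exact hcl u a v hua (h1 ▸ hv) huv.symm
    rw [hset, Finset.offDiag_card, ← Set.ncard_eq_toFinset_card', hn a b hab]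
    have := S.hp.pos
    rw [show (p + 1) * (p + 1) = (p + 1) * p + (p + 1) by ring]
    omega
  have h := Finset.card_eq_sum_card_image f P
  rw [Finset.sum_congr rfl hfib, Finset.sum_const, smul_eq_mul, Finset.offDiag_card,
    Finset.card_univ, ← Nat.card_eq_fintype_card, S.hΩ] at h
  have h1 : (p ^ 2 + 1) * (p ^ 2 + 1) - (p ^ 2 + 1) = (p ^ 2 + 1) * p ^ 2 := by
    rw [show (p ^ 2 + 1) * (p ^ 2 + 1) = (p ^ 2 + 1) * p ^ 2 + (p ^ 2 + 1) by ring, Nat.add_sub_cancel]
  rw [h1] at h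
  have h2 : p + 1 ∣ (p ^ 2 + 1) * p ^ 2 := h ▸ Dvd.dvd.mul_left (dvd_mul_right _ _) _
  have h3 : Nat.Coprime (p + 1) (p ^ 2) := ((Nat.coprime_self_add_left (m := p) (n := 1)).2
    (Nat.coprime_one_left p)).pow_right 2
  have h4 : p + 1 ∣ p ^ 2 + 1 := h3.dvd_of_dvd_mul_right h2
  have h5 : p + 1 ∣ 2 := by
    have h6 : p ^ 2 + 1 + (2 * p) = (p + 1) * (p + 1) := by ring
    have h7 : p + 1 ∣ 2 * p := (Nat.dvd_add_right h4).1 (h6 ▸ dvd_mul_right _ _)
    exact ((Nat.coprime_self_add_left (m := p) (n := 1)).2 (Nat.coprime_one_left p)).dvd_of_dvd_mul_right h7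
  have := Nat.le_of_dvd (by norm_num) h5
  have := S.three_le
  omega

/-- The two block systems at a pair of points never agree. -/
theorem flat_false {a b : Ω} (hab : a ≠ b) (h : ∀ c, S.R a b c → c ≠ b → S.R b a c) : False := by
  haveI := S.finite
  have hR : ∀ x y z, S.R x y z → z ≠ y → S.R y x z := by
    intro x y z hxyz hzy
    obtain ⟨g, h1, h2⟩ := S.apply2 (S.ne_left x y z hxyz).symm hab
    have h3 := S.inv g _ _ _ hxyz
    rw [h1, h2] at h3
    have h4 := h _ h3 (fun e => hzy (MulAction.injective g (e.trans h2.symm)))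
    rw [← h1, ← h2, S.inv_iff] at h4
    exact h4
  refine S.line_false (fun x y => insert x {z | S.R x y z}) (fun x y hxy => ?_) (fun x y hxy => ?_)
    (fun x y _ => Set.mem_insert _ _) (fun x y z _ hz hzx => ?_)
  · ext z
    simp only [Set.mem_insert_iff, Set.mem_setOf_eq]
    constructor
    · rintro (rfl | hz)
      · exact Or.inr (S.refl y z hxy)
      · rcases eq_or_ne z y with rfl | hzy
        · exact Or.inl rfl
        · exact Or.inr (hR x y z hz hzy)
    · rintro (rfl | hz)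
      · exact Or.inr (S.refl x z hxy.symm)
      · rcases eq_or_ne z x with rfl | hzx
        · exact Or.inl rfl
        · exact Or.inr (hR y x z hz hzx)
  · show (insert x {z | S.R x y z}).ncard = p + 1
    rw [Set.ncard_insert_of_notMem (a := x) (s := {z | S.R x y z}) (fun h : S.R x y x => S.ne_right h rfl) (Set.toFinite _), S.hcard x y hxy.symm]
  · rcases Set.mem_insert_iff.1 hz with rfl | hz'
    · exact absurd rfl hzx
    · ext w
      simp only [Set.mem_insert_iff, Set.mem_setOf_eq]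
      exact or_congr_right ⟨fun hw => S.trans x _ _ _ hz' hw,
        fun hw => S.trans x _ _ _ (S.symm x _ _ hz') hw⟩

/-- The second block system is never symmetric. -/
theorem sym_false {a b : Ω} (hab : a ≠ b) (h : ∀ c, S.R b a c → c ≠ a → S.R c a b) : False := by
  have hR : ∀ x y z, S.R y x z → z ≠ x → S.R z x y := by
    intro x y z hyxz hzx
    obtain ⟨g, h1, h2⟩ := S.apply2 (S.ne_left y x z hyxz) hab
    have h3 := S.inv g _ _ _ hyxz
    rw [h1, h2] at h3
    have h4 := h _ h3 (fun e => hzx (MulAction.injective g (e.trans h1.symm)))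
    rw [← h1, ← h2, S.inv_iff] at h4
    exact h4
  refine S.flat_false hab fun c hc hcb => ?_
  have h1 := hR b a c hc hcb
  have h2 := hR a c b (S.symm c _ _ h1) (Ne.symm hab)
  exact h2

/-- A pointwise stabiliser never fixes exactly `p + 1` points. -/
theorem fix_false [Finite G] {a b : Ω} (hab : a ≠ b)
    (h : {z : Ω | ∀ g ∈ St G a b, g • z = z}.ncard = p + 1) : False := by
  haveI := S.finite
  refine S.line_false (fun x y => {z : Ω | ∀ g ∈ St G x y, g • z = z})
    (fun x y _ => by simp only [St_symm x y]) (fun x y hxy => ?_) (fun x y _ => fun g hg => hg.1)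
    (fun x y z hxy hz hzx => ?_)
  · obtain ⟨f, h1, h2⟩ := S.apply2 hab hxy
    rw [← h, show {z : Ω | ∀ g ∈ St G x y, g • z = z} = (f • ·) '' {z : Ω | ∀ g ∈ St G a b, g • z = z} from ?_,
      Set.ncard_image_of_injective _ (MulAction.injective f)]
    ext z
    constructor
    · intro hz
      refine ⟨f⁻¹ • z, fun g hg => ?_, smul_inv_smul _ _⟩
      have := hz (f * g * f⁻¹) (mem_St.2 ⟨by rw [← h1, mul_smul, inv_smul_smul, mul_smul, (mem_St.1 hg).1],
        by rw [← h2, mul_smul, inv_smul_smul, mul_smul, (mem_St.1 hg).2]⟩)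
      rw [mul_smul, mul_smul] at this
      exact eq_inv_smul_iff.2 this
    · rintro ⟨w, hw, rfl⟩ g hg
      have := hw (f⁻¹ * g * f) (mem_St.2 ⟨by rw [mul_smul, mul_smul, h1, (mem_St.1 hg).1, inv_smul_eq_iff, h1],
        by rw [mul_smul, mul_smul, h2, (mem_St.1 hg).2, inv_smul_eq_iff, h2]⟩)
      rw [mul_smul, mul_smul, inv_smul_eq_iff] at this
      exact this
  · have h1 : St G x z = St G x y := (Subgroup.eq_of_le_of_card_ge
      (fun g hg => mem_St.2 ⟨(mem_St.1 hg).1, hz g hg⟩) (S.card_St hxy hzx.symm).ge).symm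
    simp only [h1]

end Sys

end Cfsg.Agent.Solv.PSq
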